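import Cfsg.Agent.Lib.Local.CStar.OddAut

/-!
# The module of a plane inside a larger group of characteristic two

Let `L` be a group with Sylow subgroup `R` and let `Q` be a normal `2`-subgroup, normalizing `R`, of a group of
characteristic two containing `R` and a plane `E` of `L`.  Then the module of `E` lies in `Q`, and an element of
`Q` in `B(R)` centralizes it.
-/

set_option autoImplicit false
set_option linter.style.haveILetI false
set_option linter.unusedSectionVars false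
set_option maxHeartbeats 1000000

namespace Cfsg.Lib.Local.CStar

open Subgroup Cfsg Cfsg.Lib Cfsg.Lib.Local.GlaubermanZJ Cfsg.Lib.Local.BaumannBlock
  Cfsg.Lib.Local.BlockLevels Cfsg.Lib.Local.BlockSmall Cfsg.Lib.Local.SubBlock
open scoped commutatorElement MatrixGroups

universe u

section InL

variable {G : Type u} [Group G] [Finite G] {p : ℕ} [hp : Fact p.Prime] {T : Sylow p G}
  {C E F : Subgroup G} {Q : Subgroup G}

theorem inf_le_wMod (c : Ctx T C) (hE : IsPlane p T C E) (hp2 : p = 2) (hQ : IsPGroup p Q)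
    (hEQ : E ≤ normalizer (Q : Set G)) : Q ⊓ E ≤ wMod p E := by
  intro x hx
  rw [← core_eq_wMod c hE hp2]
  have hn : E ≤ normalizer ((Q ⊓ E : Subgroup G) : Set G) :=
    (le_inf hEQ le_normalizer).trans inf_normalizer_le_normalizer_inf
  exact ⟨⟨x, (mem_inf.1 hx).2⟩, Core.le_pCore' ((normal_subgroupOf_iff_le_normalizer inf_le_right).2 hn)
    ((hQ.to_le inf_le_left).comap_subtype) (mem_subgroupOf.2 hx), rfl⟩

/-- If `Q` meets the module centrally then `N_Q(E)` centralizes `E`. -/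
theorem cent_of_norm (c : Ctx T C) (hE : IsPlane p T C E) (hp2 : p = 2) (hQ : IsPGroup p Q)
    (hEQ : E ≤ normalizer (Q : Set G)) (h : Q ⊓ wMod p E ≤ centralizer (E : Set G)) :
    Q ⊓ normalizer (E : Set G) ≤ centralizer (E : Set G) := by
  set X := Q ⊓ normalizer (E : Set G) with hX
  have hn : E ≤ normalizer (X : Set G) :=
    (le_inf hEQ (le_normalizer.trans le_normalizer)).trans inf_normalizer_le_normalizer_inf
  have h1 : ⁅X, E⁆ ≤ centralizer (E : Set G) := commutator_le.2 fun x hx e he => h (by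
    have hxQ := (mem_inf.1 hx).1
    have hmem : ⁅x, e⁆ ∈ Q ⊓ E := by
      refine mem_inf.2 ⟨?_, ?_⟩
      · rw [commutatorElement_def, mul_assoc, mul_assoc]
        exact mul_mem hxQ (by
          rw [← mul_assoc]; exact (mem_normalizer_iff.1 (hEQ he) _).1 (inv_mem hxQ))
      · rw [commutatorElement_def]
        exact mul_mem ((mem_normalizer_iff.1 (mem_inf.1 hx).2 e).1 he) (inv_mem he)
    exact mem_inf.2 ⟨(mem_inf.1 hmem).1, inf_le_wMod c hE hp2 hQ hEQ hmem⟩)
  have h2 : ⁅X, E⁆ = ⊥ := by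
    rw [← commutator_idem (hQ.to_le inf_le_left) hn hE.block.1]
    exact commutator_eq_bot_iff_le_centralizer.2 h1
  exact commutator_eq_bot_iff_le_centralizer.1 h2

/-- A subgroup of `T` normalized by the orbit of `E` and meeting the module centrally centralizes `E`. -/
theorem cent_of_orbit (c : Ctx T C) (hE : IsPlane p T C E) (hp2 : p = 2) (hQT : Q ≤ (T : Subgroup G))
    (hn : ∀ F ∈ orb (T : Subgroup G) E, F ≤ normalizer (Q : Set G))
    (h : Q ⊓ wMod p E ≤ centralizer (E : Set G)) : Q ≤ centralizer (E : Set G) := by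
  have hQ : IsPGroup p Q := T.isPGroup'.to_le hQT
  intro q hq
  refine cent_of_norm c hE hp2 hQ (hn E self_mem_orb) h (mem_inf.2 ⟨hq, cjP_eq_iff.1 ?_⟩)
  by_contra hne
  have hqT := hQT hq
  set F := cjP q E with hF
  have hFo : F ∈ orb (T : Subgroup G) E := ⟨q, hqT, rfl⟩
  have hFp := orb_plane c hE hFo
  have hqB := sylow_le_normalizer_bau hqT
  have hF' : Q ⊓ wMod p F ≤ centralizer (F : Set G) := fun y hy => by
    obtain ⟨hyQ, hyW⟩ := mem_inf.1 hy
    rw [hF, cjP, ← map_wMod] at hyW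
    obtain ⟨w, hw, rfl⟩ := hyW
    refine conj_centralizer_iff.2 (h (mem_inf.2 ⟨?_, hw⟩))
    have := mul_mem (mul_mem (inv_mem hq) hyQ) hq
    simpa [mul_assoc] using this
  obtain ⟨l, hl, hlE⟩ := exists_noncentral_Lf c hE
  have hlB : l ∈ bau T := wMod_le_bau c hE hl.1
  have hcQ : ⁅q, l⁆ ∈ Q := by
    rw [commutatorElement_def, mul_assoc, mul_assoc]
    exact mul_mem hq (by
      rw [← mul_assoc]
      exact (mem_normalizer_iff.1 (hn E self_mem_orb (wMod_le_self E hl.1)) _).1 (inv_mem hq))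
  have hcB : ⁅q, l⁆ ∈ bau T := by
    rw [commutatorElement_def]
    exact mul_mem ((mem_normalizer_iff.1 hqB l).1 hlB) (inv_mem hlB)
  have hc := cent_of_norm c hFp hp2 hQ (hn F hFo) hF' (mem_inf.2 ⟨hcQ, bau_norm_plane hFp hcB⟩)
  have hlF := (Lf_le_UE_of_ne c hE hFp (Ne.symm hne) hl).2
  refine hlE ((conj_centralizer_iff (n := q)).1 ?_)
  rw [show q * l * q⁻¹ = ⁅q, l⁆ * l by rw [commutatorElement_def]; group]
  exact mul_mem hc hlF

theorem inf_wMod_cases (c : Ctx T C) (hE : IsPlane p T C E) (hEQ : E ≤ normalizer (Q : Set G)) :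
    Q ⊓ wMod p E ≤ centralizer (E : Set G) ∨ wMod p E ≤ Q := by
  refine or_iff_not_imp_left.2 fun h => ?_
  obtain ⟨K, _, _, ⟨X⟩⟩ := plane_frame c hE
  have := X.eq_wMod_of_invariant inf_le_right
    ((le_inf hEQ (le_normalizer.trans (norm_wMod hE.block))).trans inf_normalizer_le_normalizer_inf) h
  exact this.ge.trans inf_le_left

/-- An element of `B(T)` commuting with `E` modulo the module centralizes the module. -/
theorem cent_of_comm_core (c : Ctx T C) (hE : IsPlane p T C E) {y : G} (hy : y ∈ bau T)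
    (h : ∀ e ∈ E, ⁅e, y⁆ ∈ wMod p E) : y ∈ centralizer (wMod p E : Set G) := by
  obtain ⟨K, _, _, ⟨X⟩⟩ := plane_frame c hE
  by_contra hn
  set D := closure {v | ∃ w ∈ wMod p E, ⁅w, y⁆ = v} with hD
  have hDL : D ≤ Lf T E := (closure_le _).2 fun v ⟨w, hw, e⟩ => e ▸ X.commutator_mem_Lf hy hw
  have hinv : E ≤ normalizer (D : Set G) := fun e he => mem_normalizer_fintype fun v hv => by
    have hle : D ≤ D.comap (MulAut.conj e).toMonoidHom := (closure_le _).2 fun v ⟨w, hw, ev⟩ => by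
      refine subset_closure ⟨e * w * e⁻¹, X.conj_mem_wMod (le_normalizer he) hw, ?_⟩
      have hw' := X.conj_mem_wMod (le_normalizer he) hw
      have hr : Commute ⁅e, y⁆ (e * w * e⁻¹) := Frame.wMod_commute (h e he) (wMod_le E hw')
      have hr' : Commute ⁅e, y⁆ ⁅e * w * e⁻¹, y⁆ :=
        Frame.wMod_commute (h e he) (wMod_le E (X.commutator_mem_Lf hy hw').1)
      show ⁅e * w * e⁻¹, y⁆ = e * v * e⁻¹
      rw [← ev, show e * ⁅w, y⁆ * e⁻¹ = ⁅e * w * e⁻¹, ⁅e, y⁆ * y⁆ by simp [commutatorElement_def]; group,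
        commutator_congr_cent hr hr']
    exact hle hv
  have hDC : D ≤ centralizer (E : Set G) := by
    by_contra hne
    have := X.eq_wMod_of_invariant (hDL.trans Lf_le) hinv hne
    have h1 := X.relIndex_Lf
    rw [relIndex_eq_one.2 (this ▸ hDL)] at h1
    exact absurd h1 (Nat.ne_of_lt Fintype.one_lt_card)
  have h1 := X.relIndex_Lf
  rw [relIndex_eq_one.2 fun w hw => detect c hE hy hn hw (hDC (subset_closure ⟨w, hw, rfl⟩))] at h1
  exact absurd h1 (Nat.ne_of_lt Fintype.one_lt_card)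

end InL

section Ambient

variable {Γ : Type u} [Group Γ] [Finite Γ] {p : ℕ} [hp : Fact p.Prime] {L : Subgroup Γ} {R : Sylow p ↥L}
  {C E F : Subgroup ↥L} {Q : Subgroup Γ}

theorem subgroupOf_le_sylow (hQ : IsPGroup p Q)
    (hRQ : (R : Subgroup ↥L).map L.subtype ≤ normalizer (Q : Set Γ)) :
    Q.subgroupOf L ≤ (R : Subgroup ↥L) := by
  have hQL : IsPGroup p (Q.subgroupOf L) := hQ.comap_subtype
  have hn : (R : Subgroup ↥L) ≤ normalizer (Q.subgroupOf L : Set ↥L) := fun r hr =>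
    mem_normalizer_fintype fun x hx => mem_subgroupOf.2 ((mem_normalizer_iff.1 (hRQ ⟨r, hr, rfl⟩) _).1 hx)
  exact le_sup_right.trans (R.is_maximal' (IsPGroup.to_sup_of_normal_right' R.isPGroup' hQL hn) le_sup_left).le

theorem map_le_normalizer_subgroupOf (h : E.map L.subtype ≤ normalizer (Q : Set Γ)) :
    E ≤ normalizer (Q.subgroupOf L : Set ↥L) := fun e he =>
  mem_normalizer_fintype fun _ hx => mem_subgroupOf.2 ((mem_normalizer_iff.1 (h ⟨e, he, rfl⟩) _).1 hx)

variable (hp2 : p = 2) (c : Ctx R C) (hE : IsPlane p R C E) (hQ : IsPGroup p Q)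
  (hQR : Q ≤ normalizer (((R : Subgroup ↥L).map L.subtype : Subgroup Γ) : Set Γ))
  (hRQ : (R : Subgroup ↥L).map L.subtype ≤ normalizer (Q : Set Γ))
  (hEQ : E.map L.subtype ≤ normalizer (Q : Set Γ))
include hp2 c hE hQ hQR hRQ hEQ

/-- The module of the plane lies in the core. -/
theorem wMod_le_core (hcore : E.map L.subtype ≤ centralizer (Q : Set Γ) → E.map L.subtype ≤ Q) :
    (wMod p E).map L.subtype ≤ Q := by
  set Q' := Q.subgroupOf L with hQ'
  have hQT := subgroupOf_le_sylow hQ hRQ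
  rcases inf_wMod_cases c hE (map_le_normalizer_subgroupOf hEQ) with h | h
  swap
  · exact map_le_iff_le_comap.2 h
  exfalso
  have hn : ∀ F ∈ orb (R : Subgroup ↥L) E, F ≤ normalizer (Q' : Set ↥L) := by
    rintro F ⟨t, ht, rfl⟩
    refine map_le_normalizer_subgroupOf ?_
    rintro _ ⟨_, ⟨e, he, rfl⟩, rfl⟩
    simp only [MulEquiv.coe_toMonoidHom, MulAut.conj_apply, map_mul, map_inv]
    exact mul_mem (mul_mem (hRQ ⟨t, ht, rfl⟩) (hEQ ⟨e, he, rfl⟩)) (inv_mem (hRQ ⟨t, ht, rfl⟩))
  have hcent : Q' ≤ centralizer (E : Set ↥L) := cent_of_orbit c hE hp2 hQT hn h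
  set B := (bau R).map L.subtype with hB
  have hQB : Q ≤ normalizer (B : Set Γ) := by
    have h1 : B = baumannSubgroupOf p ((R : Subgroup ↥L).map L.subtype) :=
      map_baumann_inj _ L.subtype_injective _
    intro q hq
    rw [h1]
    refine cjP_eq_iff.1 ?_
    rw [cjP, map_baumann_inj _ (MulAut.conj q).injective]
    exact congrArg _ (cjP_eq_iff.2 (hQR hq))
  -- the elements of `L` kept in `L` by `Q`
  let Ks : Subgroup Γ :=
    { carrier := {x | x ∈ L ∧ x ∈ normalizer (Q : Set Γ) ∧ ∀ q ∈ Q, q * x * q⁻¹ ∈ L}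
      one_mem' := ⟨one_mem _, one_mem _, fun q _ => by simp [one_mem]⟩
      mul_mem' := fun {a b} ha hb => ⟨mul_mem ha.1 hb.1, mul_mem ha.2.1 hb.2.1, fun q hq => by
        rw [show q * (a * b) * q⁻¹ = (q * a * q⁻¹) * (q * b * q⁻¹) by group]
        exact mul_mem (ha.2.2 q hq) (hb.2.2 q hq)⟩
      inv_mem' := fun {a} ha => ⟨inv_mem ha.1, inv_mem ha.2.1, fun q hq => by
        rw [show q * a⁻¹ * q⁻¹ = (q * a * q⁻¹)⁻¹ by group]
        exact inv_mem (ha.2.2 q hq)⟩ }
  have hBK : ∀ b ∈ B, b ∈ Ks := fun b hb => ⟨map_subtype_le _ hb,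
    hRQ (Subgroup.map_mono bau_le hb), fun q hq => map_subtype_le _ ((mem_normalizer_iff.1 (hQB hq) b).1 hb)⟩
  have hEK : E.map L.subtype ≤ Ks := by
    conv_lhs => rw [← hE.block.2.1, map_commutator]
    refine commutator_le.2 fun e he b hb => ?_
    rw [commutatorElement_def]
    refine mul_mem ?_ (inv_mem (hBK b hb))
    obtain ⟨hb1, hb2, hb3⟩ := hBK b hb
    refine ⟨mul_mem (mul_mem (map_subtype_le _ he) hb1) (inv_mem (map_subtype_le _ he)),
      mul_mem (mul_mem (hEQ he) hb2) (inv_mem (hEQ he)), fun q hq => ?_⟩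
    have hq' : e⁻¹ * q * e ∈ Q := (mem_normalizer_iff''.1 (hEQ he) q).1 hq
    rw [show q * (e * b * e⁻¹) * q⁻¹ = e * ((e⁻¹ * q * e) * b * (e⁻¹ * q * e)⁻¹) * e⁻¹ by group]
    exact mul_mem (mul_mem (map_subtype_le _ he) (hb3 _ hq')) (inv_mem (map_subtype_le _ he))
  have h1 : ⁅Q, E.map L.subtype⁆ ≤ centralizer (E.map L.subtype : Set Γ) := commutator_le.2 fun q hq e he => by
    have heL : e ∈ L := map_subtype_le _ he
    have hmemL : ⁅q, e⁆ ∈ L := by
      rw [commutatorElement_def]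
      exact mul_mem ((hEK he).2.2 q hq) (inv_mem heL)
    have hmemQ : ⁅q, e⁆ ∈ Q := by
      rw [commutatorElement_def, mul_assoc, mul_assoc]
      exact mul_mem hq (by rw [← mul_assoc]; exact (mem_normalizer_iff.1 (hEQ he) _).1 (inv_mem hq))
    have h2 : (⟨⁅q, e⁆, hmemL⟩ : ↥L) ∈ centralizer (E : Set ↥L) := hcent hmemQ
    refine mem_centralizer_iff.2 ?_
    rintro _ ⟨x, hx, rfl⟩
    exact congrArg Subtype.val (mem_centralizer_iff.1 h2 x hx)
  have hres : pResidualOf p (E.map L.subtype) = E.map L.subtype :=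
    ((block_map_iff _ L.subtype_injective (R : Subgroup ↥L) E).2 hE.block).1
  have h3 : ⁅Q, E.map L.subtype⁆ = ⊥ := by
    rw [← commutator_idem hQ hEQ hres]
    exact commutator_eq_bot_iff_le_centralizer.2 h1
  have h4 : E.map L.subtype ≤ Q := hcore (le_centralizer_iff.1 (commutator_eq_bot_iff_le_centralizer.1 h3))
  exact hE.not_centralizes ((map_le_iff_le_comap.1 h4).trans (hcent.trans
    (centralizer_le (wMod_le_self E))))

theorem core_cent {y : ↥L} (hyQ : (y : Γ) ∈ Q) (hy : y ∈ bau R) :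
    y ∈ centralizer (wMod p E : Set ↥L) := by
  refine cent_of_comm_core c hE hy fun e he => ?_
  have hn := map_le_normalizer_subgroupOf hEQ (L := L)
  refine inf_le_wMod c hE hp2 (hQ.comap_subtype) hn (mem_inf.2 ⟨?_, ?_⟩)
  · rw [commutatorElement_def]
    exact mul_mem ((mem_normalizer_iff.1 (hn he) y).1 (mem_subgroupOf.2 hyQ))
      (inv_mem (mem_subgroupOf.2 hyQ))
  · rw [commutatorElement_def, mul_assoc, mul_assoc]
    exact mul_mem he (by
      rw [← mul_assoc]; exact (mem_normalizer_iff.1 (bau_norm_plane hE hy) _).1 (inv_mem he))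

end Ambient

end Cfsg.Lib.Local.CStar
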