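import Cfsg.Agent.Lib.Local.CStar.Components
import Cfsg.Agent.Lib.Local.CStar.Escape
import Cfsg.Agent.Lib.CharTwoIn

/-!
# A normal subgroup for two groups over a Sylow subgroup

In a group of even characteristic and small rank at three a group `M` normalizing the Sylow subgroup of `L`
keeps the conjugates of the module of a plane `E` of `L` in the centralizer of this module.
-/

set_option autoImplicit false
set_option linter.style.haveILetI false
set_option linter.unusedSectionVars false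
set_option maxHeartbeats 1000000

namespace Cfsg.Lib.Local.CStar

open Subgroup Cfsg Cfsg.Lib Cfsg.Lib.Local.GlaubermanZJ Cfsg.Lib.Local.BaumannBlock
  Cfsg.Lib.Local.BlockLevels Cfsg.Lib.Local.BlockSmall Cfsg.Lib.Local.SubBlock
open scoped commutatorElement MatrixGroups

universe u

variable {Γ : Type u} [Group Γ] [Finite Γ] [hp : Fact (Nat.Prime 2)] {L : Subgroup Γ}
  {P : Sylow 2 ↥L} {C E F : Subgroup ↥L} {M : Subgroup Γ}

theorem map_cjP (q : ↥L) (E : Subgroup ↥L) :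
    (cjP q E).map L.subtype = cjP (q : Γ) (E.map L.subtype) := by
  rw [cjP, cjP, Subgroup.map_map, Subgroup.map_map]
  rfl

variable (c : Ctx P C) (hE : IsPlane 2 P C E) (hMR : M ≤ normalizer (imgP P : Set Γ))
  {T : Sylow 2 Γ} (hTM : (T : Subgroup Γ) ≤ M) (hRT : imgP P ≤ (T : Subgroup Γ))
  (hTL : (T : Subgroup Γ) ≤ normalizer (L : Set Γ)) (hTC : (T : Subgroup Γ) ≤ normalizer (C.map L.subtype : Set Γ))
  (hrk : ∀ A : Subgroup Γ, IsMulCommutative ↥A → (∀ a ∈ A, a ^ 3 = 1) → A ≤ L → Nat.card ↥A ≤ 9)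
include c hE hMR hTM hRT hTL hTC hrk

/-- At most two orbits. -/
theorem orbits_le_two {t t' : Γ} (ht : t ∈ (T : Subgroup Γ)) (ht' : t' ∈ (T : Subgroup Γ))
    (htU : t ∉ imgP P ⊔ (T : Subgroup Γ) ⊓ normalizer (E.map L.subtype : Set Γ))
    (ht'U : t' ∉ imgP P ⊔ (T : Subgroup Γ) ⊓ normalizer (E.map L.subtype : Set Γ)) :
    t⁻¹ * t' ∈ imgP P ⊔ (T : Subgroup Γ) ⊓ normalizer (E.map L.subtype : Set Γ) := by
  by_contra hne
  obtain ⟨F, hF, eF, -, cF⟩ := plane_at c hE hMR hTM hRT hTL hTC ht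
  obtain ⟨F', hF', eF', -, cF'⟩ := plane_at c hE hMR hTM hRT hTL hTC ht'
  have hmove : ∀ {a b : Γ}, a ∈ (T : Subgroup Γ) → b ∈ (T : Subgroup Γ) → ∀ q : ↥L, q ∈ (P : Subgroup ↥L) →
      cjP b (E.map L.subtype) = cjP (q : Γ) (cjP a (E.map L.subtype)) →
      a⁻¹ * b ∈ imgP P ⊔ (T : Subgroup Γ) ⊓ normalizer (E.map L.subtype : Set Γ) := by
    intro a b ha hb q hq e
    have hqT : (q : Γ) ∈ (T : Subgroup Γ) := hRT ⟨q, hq, rfl⟩
    rw [show a⁻¹ * b = (a⁻¹ * q * a) * (a⁻¹ * (q : Γ)⁻¹ * b) by group]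
    refine mul_mem (mem_sup_left ((mem_normalizer_iff''.1 (hMR (hTM ha)) _).1 ⟨q, hq, rfl⟩)) (mem_sup_right
      (mem_inf.2 ⟨mul_mem (mul_mem (inv_mem ha) (inv_mem hqT)) hb, cjP_eq_iff.1 ?_⟩))
    rw [cjP_mul, e, cjP_mul, cjP_inv, cjP_inv]
  have h1 : F ∉ orb (P : Subgroup ↥L) E := fun ⟨q, hq, e⟩ => htU (by
    have := hmove (one_mem _) ht q hq (by rw [cjP_one, ← map_cjP, e, eF])
    simpa using this)
  have h2 : F' ∉ orb (P : Subgroup ↥L) E := fun ⟨q, hq, e⟩ => ht'U (by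
    have := hmove (one_mem _) ht' q hq (by rw [cjP_one, ← map_cjP, e, eF'])
    simpa using this)
  have h3 : F' ∉ orb (P : Subgroup ↥L) F := fun ⟨q, hq, e⟩ => hne
    (hmove ht ht' q hq (by rw [← eF, ← map_cjP, e, eF']))
  have d1 := commute_of_orb c hE hF cF h1
  have d2 := commute_of_orb c hE hF' cF' h2
  have d3 := commute_of_orb c hF hF' (cF'.trans cF.symm) h3
  obtain ⟨x, hx, hx3, hxW⟩ := exists_three c hE rfl
  obtain ⟨y, hy, hy3, hyW⟩ := exists_three c hF rfl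
  obtain ⟨z, hz, hz3, hzW⟩ := exists_three c hF' rfl
  set s : Set ↥L := {x, y, z} with hs
  set A := closure s with hA
  have hxy := d1 x hx y hy
  have hxz := d2 x hx z hz
  have hyz := d3 y hy z hz
  have hAs : A ≤ centralizer s := (closure_le _).2 (by
    rintro a (rfl | rfl | rfl) <;> refine mem_centralizer_iff.2 ?_ <;> rintro b (rfl | rfl | rfl)
    · rfl
    · exact hxy.eq.symm
    · exact hxz.eq.symm
    · exact hxy.eq
    · rfl
    · exact hyz.eq.symm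
    · exact hxz.eq
    · exact hyz.eq
    · rfl)
  have hAA : A ≤ centralizer (A : Set ↥L) := (closure_le _).2 fun a ha =>
    mem_centralizer_iff.2 fun b hb => (mem_centralizer_iff.1 (hAs hb) a ha).symm
  have hA3 : ∀ a ∈ A, a ^ 3 = 1 := fun a ha => by
    induction ha using closure_induction with
    | mem a ha => rcases ha with rfl | rfl | rfl <;> assumption
    | one => exact one_pow 3
    | mul a b ha hb e1 e2 =>
      rw [(show Commute a b from (mem_centralizer_iff.1 (hAA hb) a ha)).mul_pow, e1, e2, one_mul]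
    | inv a _ e => rw [inv_pow, e, inv_one]
  have hle : ⊥ ⊔ zpowers x ⊔ zpowers y ⊔ zpowers z ≤ A := sup_le (sup_le (sup_le bot_le
    (zpowers_le.2 (subset_closure (by simp [hs])))) (zpowers_le.2 (subset_closure (by simp [hs]))))
    (zpowers_le.2 (subset_closure (by simp [hs])))
  have hcard : Nat.card ↥(⊥ ⊔ zpowers x ⊔ zpowers y ⊔ zpowers z : Subgroup ↥L) = 27 := by
    rw [card_sup_three hz3 ?_ ?_, card_sup_three hy3 ?_ ?_, card_sup_three hx3 ?_ ?_, Subgroup.card_bot]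
    · exact bot_le
    · exact fun h => hxW (by rw [mem_bot.1 h]; exact one_mem _)
    · exact sup_le bot_le (zpowers_le.2 (mem_centralizer_singleton_iff.2 hxy.eq))
    · refine fun h => hyW ((show (⊥ ⊔ zpowers x : Subgroup ↥L) ≤ _ from sup_le bot_le
        (zpowers_le.2 (mem_centralizer_iff.2 fun w hw => ?_))) h)
      exact (d1 x hx w (wMod_le_self F hw)).eq.symm
    · exact sup_le (sup_le bot_le (zpowers_le.2 (mem_centralizer_singleton_iff.2 hxz.eq)))
        (zpowers_le.2 (mem_centralizer_singleton_iff.2 hyz.eq))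
    · refine fun h => hzW ((show (⊥ ⊔ zpowers x ⊔ zpowers y : Subgroup ↥L) ≤ _ from sup_le (sup_le bot_le
        (zpowers_le.2 (mem_centralizer_iff.2 fun w hw => ?_))) (zpowers_le.2 (mem_centralizer_iff.2 fun w hw => ?_))) h)
      · exact (d2 x hx w (wMod_le_self F' hw)).eq.symm
      · exact (d3 y hy w (wMod_le_self F' hw)).eq.symm
  have h27 : 27 ≤ Nat.card ↥A := hcard ▸ Nat.le_of_dvd Nat.card_pos (Subgroup.card_dvd_of_le hle)
  have := hrk (A.map L.subtype) ⟨⟨fun a b => ?_⟩⟩ ?_ (map_subtype_le _)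
  · rw [card_map_of_injective L.subtype_injective] at this
    omega
  · obtain ⟨a', ha', ea⟩ := a.2
    obtain ⟨b', hb', eb⟩ := b.2
    refine Subtype.ext ?_
    rw [coe_mul, coe_mul, ← ea, ← eb, ← map_mul, ← map_mul, mem_centralizer_iff.1 (hAA hb') a' ha']
  · rintro _ ⟨a, ha, rfl⟩
    rw [← map_pow, hA3 a ha, map_one]

/-- The conjugates of the module centralize it. -/
theorem no_adj (heven : IsOfEvenCharacteristic Γ) {m₀ : Γ} (hm₀ : m₀ ∈ M) :
    ¬ Nc (cjP m₀ (wG E)) (wG E) := by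
  intro h0
  obtain ⟨t, S, s, ht, htU, hSM, hsS, hUS, hsU, hss, hSg, hswap⟩ :=
    exists_exchange c hE hMR hTM hRT hTL hTC
      (fun t ht t' ht' h h' => orbits_le_two c hE hMR hTM hRT hTL hTC hrk ht ht' h h') hm₀ h0
  set U₀ := imgP P ⊔ (T : Subgroup Γ) ⊓ normalizer (E.map L.subtype : Set Γ) with hU₀
  set Ω : Set Γ := {x | ∃ q ∈ imgP P, x ∈ cjP q (E.map L.subtype)} with hΩ
  set D := imgP P ⊓ centralizer Ω with hD
  have hqE : ∀ q ∈ imgP P, ∃ F : Subgroup ↥L, IsPlane 2 P C F ∧ F.map L.subtype = cjP q (E.map L.subtype) ∧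
      wG F = cjP q (wG E) := fun q hq => by
    obtain ⟨F, h1, h2, h3, -⟩ := plane_at c hE hMR hTM hRT hTL hTC (hRT hq)
    exact ⟨F, h1, h2, h3⟩
  obtain ⟨Ft, hFt, eFt, wFt, -⟩ := plane_at c hE hMR hTM hRT hTL hTC ht
  have hne : ∀ q ∈ imgP P, cjP t (E.map L.subtype) ≠ cjP q (E.map L.subtype) := fun q hq e => by
    refine htU ?_
    rw [show t = q * (q⁻¹ * t) by group]
    refine mul_mem (mem_sup_left hq) (mem_sup_right (mem_inf.2 ⟨mul_mem (inv_mem (hRT hq)) ht, cjP_eq_iff.1 ?_⟩))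
    rw [cjP_mul, e, cjP_inv]
  have htm : t * m₀ ∈ M := mul_mem (hTM ht) hm₀
  have hmov : Nc (cjP (t * m₀) (wG E)) (wG Ft) := by
    rw [wFt, cjP_mul, nc_conj]; exact h0
  -- the commutator
  obtain ⟨a₀, ha₀, b₀, hb₀, hab₀⟩ := nc_iff.1 ((nc_conj t).2 h0.symm)
  rw [← cjP_mul] at hb₀
  set z₀ := ⁅a₀, b₀⁆ with hz₀
  have hz1 : z₀ ≠ 1 := fun h => hab₀ (commutatorElement_eq_one_iff_commute.1 h)
  have haP : a₀ ∈ imgP P := by
    have := conj_wG_le c hE (hMR (hTM ht))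
    exact this ha₀
  have hbP : b₀ ∈ imgP P := conj_wG_le c hE (hMR htm) hb₀
  have hcomm : ∀ q ∈ imgP P, ∀ a b : Γ, a ∈ imgP P → b ∈ imgP P →
      a ∈ centralizer (cjP q (wG E) : Set Γ) → b ∈ centralizer (cjP q (wG E) : Set Γ) →
      ⁅a, b⁆ ∈ centralizer (cjP q (E.map L.subtype) : Set Γ) := by
    intro q hq a b ha hb hac hbc
    obtain ⟨F, hF, eF, wF⟩ := hqE q hq
    obtain ⟨a, -, rfl⟩ := ha
    obtain ⟨b, -, rfl⟩ := hb
    have hc : ∀ {x : ↥L}, (x : Γ) ∈ centralizer (cjP q (wG E) : Set Γ) → x ∈ centralizer (wMod 2 F : Set ↥L) :=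
      fun {x} hx => mem_centralizer_iff.2 fun w hw => Subtype.ext (by
        rw [← wF] at hx
        exact mem_centralizer_iff.1 hx w ⟨w, hw, rfl⟩)
    have h := comm_cent c hF rfl (hc hac) (hc hbc)
    rw [← eF, ← map_commutatorElement]
    refine mem_centralizer_iff.2 ?_
    rintro _ ⟨e, he, rfl⟩
    exact congrArg Subtype.val (mem_centralizer_iff.1 h e he)
  have hz0D : z₀ ∈ D := by
    refine mem_inf.2 ⟨?_, mem_centralizer_iff.2 fun x ⟨q, hq, hx⟩ => ?_⟩
    · rw [hz₀, commutatorElement_def]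
      exact mul_mem (mul_mem (mul_mem haP hbP) (inv_mem haP)) (inv_mem hbP)
    · obtain ⟨F, hF, eF, wF⟩ := hqE q hq
      refine mem_centralizer_iff.1 (hcomm q hq a₀ b₀ haP hbP ?_ ?_) x hx
      · have := planes_commute_at c hE hMR hTM hRT hTL hTC ht (hRT hq)
        rw [Nc, not_not] at this
        exact this ha₀
      · have := mover_unique c (hMR htm) hE hFt hF hmov (fun h => hne q hq (by rw [← eFt, ← h, eF]))
        rw [Nc, not_not, wF] at this
        exact this hb₀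
  have hz0sD : s⁻¹ * z₀ * s ∈ D := by
    have hs' : s ∈ normalizer (imgP P : Set Γ) := hMR (hSM hsS)
    have hinP : ∀ {a : Γ}, a ∈ imgP P → s⁻¹ * a * s ∈ imgP P := fun ha =>
      (mem_normalizer_iff''.1 hs' _).1 ha
    refine mem_inf.2 ⟨hinP (mem_inf.1 hz0D).1, mem_centralizer_iff.2 fun x ⟨q, hq, hx⟩ => ?_⟩
    rw [show s⁻¹ * z₀ * s = ⁅s⁻¹ * a₀ * s, s⁻¹ * b₀ * s⁆ by rw [hz₀, commutatorElement_def, commutatorElement_def]; group]
    have hsq : s * q ∈ M := mul_mem (hSM hsS) (hTM (hRT hq))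
    obtain ⟨q', hq', hn⟩ := hswap q hq
    obtain ⟨F', hF', eF', wF'⟩ := hqE q' hq'
    rw [← wF'] at hn
    have hback : ∀ {a : Γ}, a ∈ centralizer (cjP (s * q) (wG E) : Set Γ) →
        s⁻¹ * a * s ∈ centralizer (cjP q (wG E) : Set Γ) := fun {a} ha => by
      have h := (conj_centralizer_iff (n := s⁻¹) (E := cjP (s * q) (wG E))).2 ha
      rwa [← cjP_mul, inv_mul_cancel_left, inv_inv] at h
    refine mem_centralizer_iff.1 (hcomm q hq _ _ (hinP haP) (hinP hbP) (hback ?_) (hback ?_)) x hx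
    · have := mover_unique c (hMR hsq) hE hF' hFt hn (fun h => hne q' hq' (by rw [← eFt, h, eF']))
      rw [Nc, not_not, le_centralizer_iff, wFt] at this
      exact this ha₀
    · have := movers_commute c (hMR hsq) (hMR htm) hE hE hF' hFt hn hmov
      rw [Nc, not_not, le_centralizer_iff] at this
      exact this hb₀
  -- the invariant subgroup
  have hDu : ∀ {u : Γ}, u ∈ normalizer (imgP P : Set Γ) →
      (∃ q₁ ∈ imgP P, cjP u⁻¹ (E.map L.subtype) = cjP q₁ (E.map L.subtype)) → u ∈ normalizer (D : Set Γ) := by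
    intro u hu ⟨q₁, hq₁, e₁⟩
    refine mem_normalizer_fintype fun x hx => mem_inf.2 ⟨(mem_normalizer_iff.1 hu x).1 (mem_inf.1 hx).1,
      mem_centralizer_iff.2 fun y ⟨q, hq, hy⟩ => ?_⟩
    have hq' := (mem_normalizer_iff''.1 hu q).1 hq
    have hy' : u⁻¹ * y * u ∈ cjP (u⁻¹ * q * u * q₁) (E.map L.subtype) := by
      rw [cjP_mul _ q₁, ← e₁, ← cjP_mul, mul_inv_cancel_right, cjP_mul]
      exact ⟨y, hy, by simp⟩
    have h := mem_centralizer_iff.1 (mem_inf.1 hx).2 (u⁻¹ * y * u) ⟨_, mul_mem hq' hq₁, hy'⟩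
    calc y * (u * x * u⁻¹) = u * ((u⁻¹ * y * u) * x) * u⁻¹ := by group
      _ = u * (x * (u⁻¹ * y * u)) * u⁻¹ := by rw [h]
      _ = u * x * u⁻¹ * y := by group
  have hUD : U₀ ≤ normalizer (D : Set Γ) :=
    sup_le (fun u hu => hDu (le_normalizer hu) ⟨u⁻¹, inv_mem hu, rfl⟩) fun u hu =>
      hDu (hMR (hTM (mem_inf.1 hu).1)) ⟨1, one_mem _, by rw [cjP_one, cjP_eq_iff.2 (inv_mem (mem_inf.1 hu).2)]⟩
  set D' := D ⊓ cjP s D with hD'
  have hUD' : U₀ ≤ normalizer (D' : Set Γ) := by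
    refine le_trans (le_inf hUD fun u hu => cjP_eq_iff.1 ?_) inf_normalizer_le_normalizer_inf
    have := hUD ((mem_normalizer_iff''.1 hsU u).1 hu)
    rw [← cjP_mul, show u * s = s * (s⁻¹ * u * s) by group, cjP_mul, cjP_eq_iff.2 this]
  have hsD' : s ∈ normalizer (D' : Set Γ) := by
    refine cjP_eq_iff.1 ?_
    rw [hD', cjP, Subgroup.map_inf _ _ _ (MulAut.conj s).injective, ← cjP, ← cjP, ← cjP_mul,
      cjP_eq_iff.2 (hUD hss), inf_comm]
  have hSD : (S : Subgroup Γ) ≤ normalizer (D' : Set Γ) := hSg.trans (sup_le hUD' (zpowers_le.2 hsD'))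
  have hD'P : D' ≤ imgP P := inf_le_left.trans inf_le_left
  have hRS : imgP P ≤ (S : Subgroup Γ) := le_sup_left.trans hUS
  have hD'ne : D' ≠ ⊥ := fun h => hz1 (mem_bot.1 (h ▸ (mem_inf.2 ⟨hz0D, ⟨_, hz0sD, by
    simp [mul_assoc]⟩⟩ : z₀ ∈ D')))
  obtain ⟨z, hzD, hz1', hfix⟩ := exists_fixed_of_normalized S.isPGroup' (S.isPGroup'.to_le (hD'P.trans hRS))
    hD'ne hSD
  -- the centralizer
  set X := normalizer (zpowers z : Set Γ) with hX
  have hcX : centralizer ({z} : Set Γ) ≤ X := fun g hg => mem_normalizer_fintype fun y hy => by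
    obtain ⟨k, rfl⟩ := Subgroup.mem_zpowers_iff.1 hy
    have hc : Commute g z := mem_centralizer_singleton_iff.1 hg
    rw [(hc.zpow_right k).eq, mul_inv_cancel_right]
    exact zpow_mem (mem_zpowers z) k
  have hSX : (S : Subgroup Γ) ≤ X := fun g hg => hcX (mem_centralizer_singleton_iff.2 (hfix g hg).eq)
  have hzS : z ∈ (S : Subgroup Γ) := hRS (hD'P hzD)
  have hX2 := CharTwoIn.two_local_of_sylow heven S (S.isPGroup'.to_le (zpowers_le.2 hzS))
    (fun h => hz1' (mem_bot.1 (h ▸ mem_zpowers z))) hSX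
  have hzE : ∀ q ∈ imgP P, cjP q (E.map L.subtype) ≤ X := fun q hq e he =>
    hcX (mem_centralizer_singleton_iff.2 (mem_centralizer_iff.1 (mem_inf.1 (mem_inf.1 hzD).1).2 e ⟨q, hq, he⟩))
  set Q := pCoreTwoOf X with hQ
  have hXQ : X ≤ normalizer (Q : Set Γ) := CharTwoIn.le_normalizer_core X
  have hQp : IsPGroup 2 Q := CharTwoIn.core_isPGroup X
  have hQS : Q ≤ (S : Subgroup Γ) :=
    le_sup_right.trans (S.is_maximal' (IsPGroup.to_sup_of_normal_right' S.isPGroup' hQp (hSX.trans hXQ))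
      le_sup_left).le
  have hQR : Q ≤ normalizer (imgP P : Set Γ) := (hQS.trans hSM).trans hMR
  have hRQ : imgP P ≤ normalizer (Q : Set Γ) := (hRS.trans hSX).trans hXQ
  have hEX : E.map L.subtype ≤ X := by
    have := hzE 1 (one_mem _)
    rwa [cjP_one] at this
  have hW : wG E ≤ Q := wMod_le_core rfl c hE hQp hQR hRQ (hEX.trans hXQ) fun hcQ e he => by
    have h2 : centralizer (pCore 2 ↥X : Set ↥X) ≤ pCore 2 ↥X := CharTwoIn.isOfCharacteristicTwo_of hX2
    refine ⟨⟨e, hEX he⟩, h2 (mem_centralizer_iff.2 fun y hy => Subtype.ext ?_), rfl⟩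
    exact mem_centralizer_iff.1 (hcQ he) y ⟨y, hy, rfl⟩
  obtain ⟨q', hq', hn⟩ := hswap 1 (one_mem _)
  rw [mul_one] at hn
  obtain ⟨F', hF', eF', wF'⟩ := hqE q' hq'
  rw [← wF'] at hn
  have hsn : s ∈ normalizer (imgP P : Set Γ) := hMR (hSM hsS)
  refine hn fun y hy => ?_
  obtain ⟨y', hy', rfl⟩ := conj_wG_le c hE hsn hy
  have hth : y' ∈ thom P := by
    refine autImg_le_thom c hE (conjR hsn) ?_
    rw [autImg_conjR c hE hsn]
    exact mem_subgroupOf.2 hy
  have hyQ : (y' : Γ) ∈ Q := by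
    obtain ⟨w, hw, e⟩ := hy
    rw [show (y' : Γ) = s * w * s⁻¹ from e.symm]
    exact (mem_normalizer_iff.1 (hXQ (hSX hsS)) w).1 (hW hw)
  have hc := core_cent rfl c hF' hQp hQR hRQ (eF' ▸ (hzE q' hq').trans hXQ) hyQ (thom_le_bau hth)
  refine mem_centralizer_iff.2 ?_
  rintro _ ⟨w, hw, rfl⟩
  exact congrArg Subtype.val (mem_centralizer_iff.1 hc w hw)

end Cfsg.Lib.Local.CStar
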