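import Cfsg.Agent.Lib.Local.CStar.CommonNormal

/-!
# Two groups over a Sylow subgroup of a group of even characteristic
-/

set_option autoImplicit false
set_option linter.style.haveILetI false
set_option linter.unusedSectionVars false
set_option maxHeartbeats 1000000

namespace Cfsg.Lib.Local.CStar

open Subgroup Cfsg Cfsg.Lib Cfsg.Lib.Local.GlaubermanZJ Cfsg.Lib.Local.BaumannBlock
  Cfsg.Lib.Local.BlockLevels Cfsg.Lib.Local.BlockSmall Cfsg.Lib.Local.SubBlock
open scoped commutatorElement MatrixGroups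

universe u

variable {G : Type u} [Group G] [Finite G] [hp : Fact (Nat.Prime 2)]

/-- The normalizer of the Sylow subgroup normalizes its characteristic subgroups. -/
theorem norm_char {L : Subgroup G} {P : Sylow 2 ↥L} {K : Subgroup ↥L} (hK : K ≤ (P : Subgroup ↥L))
    (hc : (K.subgroupOf (P : Subgroup ↥L)).Characteristic) :
    normalizer (imgP P : Set G) ≤ normalizer (K.map L.subtype : Set G) := fun n hn => by
  refine mem_normalizer_fintype fun x hx => ?_
  obtain ⟨k, hk, rfl⟩ := hx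
  exact ⟨(conjR hn ⟨k, hK hk⟩ : ↥(P : Subgroup ↥L)),
    characteristic_iff_map_le.1 hc (conjR hn) ⟨⟨k, hK hk⟩, mem_subgroupOf.2 hk, rfl⟩, conjR_apply hn _⟩

theorem sup_sylow_eq (T : Sylow 2 G) {H : Subgroup G} (hTH : (T : Subgroup G) ≤ H) :
    oddGenerated H ⊔ (T : Subgroup G) = H := by
  set K := oddGenerated H with hK
  have hKH : K ≤ H := (closure_le _).2 fun x hx => hx.1
  haveI : (K.subgroupOf H).Normal := (normal_subgroupOf_iff_le_normalizer hKH).2 fun g hg =>
    mem_normalizer_fintype fun x hx => by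
      have hle : K ≤ K.comap (MulAut.conj g).toMonoidHom := (closure_le _).2 fun y hy =>
        subset_closure ⟨mul_mem (mul_mem hg hy.1) (inv_mem hg),
          ((MulAut.conj g).orderOf_eq y).symm ▸ hy.2⟩
      exact hle hx
  have hp2 : IsPGroup 2 (↥H ⧸ K.subgroupOf H) := fun q => by
    induction q using QuotientGroup.induction_on with
    | H x =>
      obtain ⟨k, m, hm, hkm⟩ := Nat.exists_eq_two_pow_mul_odd (orderOf_pos x).ne'
      refine ⟨k, (QuotientGroup.eq_one_iff (x ^ 2 ^ k)).2 (subset_closure ⟨(x ^ 2 ^ k).2, ?_⟩)⟩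
      show Odd (orderOf ((x ^ 2 ^ k : ↥H) : G))
      rw [orderOf_coe, orderOf_pow' _ (pow_ne_zero k two_ne_zero), hkm, Nat.gcd_mul_right_left,
        Nat.mul_div_cancel_left _ (pow_pos two_pos k)]
      exact hm
  refine le_antisymm (sup_le hKH hTH) (relIndex_eq_one.1 ?_)
  obtain ⟨j, hj⟩ := hp2.exists_card_eq
  have h1 : (K ⊔ (T : Subgroup G)).relIndex H ∣ 2 ^ j := hj ▸ relIndex_dvd_of_le_left H le_sup_left
  have h2 : ¬ 2 ∣ (K ⊔ (T : Subgroup G)).relIndex H := fun h =>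
    T.not_dvd_index ((h.trans (relIndex_dvd_of_le_left H le_sup_right)).trans
      (relIndex_dvd_index_of_le hTH))
  exact Nat.eq_one_of_dvd_coprimes (((Nat.coprime_two_left.2 (Nat.odd_iff.2 (by omega))).pow_left j)) h1 dvd_rfl

theorem common_normal (heven : IsOfEvenCharacteristic G) (hrank : TwoLocalPRankLE 3 2 G) (T : Sylow 2 G)
    {M₀ H R : Subgroup G} (hTM : (T : Subgroup G) ≤ M₀) (hTH : (T : Subgroup G) ≤ H) (hH : pCore 2 ↥H ≠ ⊥)
    (hU : ∃! K : Subgroup ↥H, IsCoatom K ∧ (T : Subgroup G).subgroupOf H ≤ K)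
    (hR : R ≠ ⊥) (hRT : R ≤ (T : Subgroup G))
    (hRS : ∃ P : Sylow 2 ↥(oddGenerated H ⊔ R),
      (P : Subgroup ↥(oddGenerated H ⊔ R)) = R.subgroupOf (oddGenerated H ⊔ R))
    (hRM : M₀ ≤ normalizer (R : Set G)) :
    ∃ R₀ : Subgroup G, R₀ ≠ ⊥ ∧ R₀ ≤ R ∧ M₀ ⊔ H ≤ normalizer (R₀ : Set G) := by
  classical
  set L := oddGenerated H ⊔ R with hL
  obtain ⟨P, hP⟩ := hRS
  have hPR : imgP P = R := by
    rw [imgP, hP, map_subgroupOf_eq_of_le le_sup_right]
  have hHsup := sup_sylow_eq T hTH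
  have hKH : oddGenerated H ≤ H := le_sup_left.trans hHsup.le
  have hLH : L ≤ H := sup_le hKH (hRT.trans hTH)
  have hKn : H ≤ normalizer (oddGenerated H : Set G) := fun g hg => mem_normalizer_fintype fun x hx => by
    have hle : oddGenerated H ≤ (oddGenerated H).comap (MulAut.conj g).toMonoidHom :=
      (closure_le _).2 fun y hy => subset_closure ⟨mul_mem (mul_mem hg hy.1) (inv_mem hg),
        ((MulAut.conj g).orderOf_eq y).symm ▸ hy.2⟩
    exact hle hx
  have hHL : H ≤ normalizer (L : Set G) := by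
    rw [← hHsup]
    refine sup_le (le_sup_left.trans le_normalizer) fun t ht => cjP_eq_iff.1 ?_
    rw [cjP, hL, Subgroup.map_sup]
    exact congrArg₂ (· ⊔ ·) (cjP_eq_iff.2 (hKn (hTH ht))) (cjP_eq_iff.2 (hRM (hTM ht)))
  have hTL : (T : Subgroup G) ≤ normalizer (L : Set G) := hTH.trans hHL
  -- characteristic two
  set Q := pCoreTwoOf H with hQ
  have hQne : Q ≠ ⊥ := fun h => hH ((map_eq_bot_iff_of_injective _ H.subtype_injective).1 h)
  have hHQ : H ≤ normalizer (Q : Set G) := CharTwoIn.le_normalizer_core H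
  have hN := CharTwoIn.two_local_of_sylow heven T (CharTwoIn.core_isPGroup H) hQne (hTH.trans hHQ)
  set N := normalizer (Q : Set G) with hNdef
  have hQNT : pCoreTwoOf N ≤ (T : Subgroup G) :=
    le_sup_right.trans (T.is_maximal' (IsPGroup.to_sup_of_normal_right' T.isPGroup' (CharTwoIn.core_isPGroup N)
      ((hTH.trans hHQ).trans (CharTwoIn.le_normalizer_core N))) le_sup_left).le
  have hQNH : pCoreTwoOf N ≤ pCoreTwoOf H := CharTwoIn.le_core (hQNT.trans hTH) (CharTwoIn.core_isPGroup N)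
    (hHQ.trans (CharTwoIn.le_normalizer_core N))
  have hH2 : CharTwoIn.CharTwoIn H := fun y hy hodd hc => hN y (hHQ hy) hodd fun q hq => hc q (hQNH hq)
  have hL2 : centralizer (pCore 2 ↥L : Set ↥L) ≤ pCore 2 ↥L :=
    CharTwoIn.isOfCharacteristicTwo_of (CharTwoIn.charTwoIn_down hH2 hLH hHL)
  haveI : Nontrivial ↥L := (nontrivial_iff_ne_bot L).2 fun h => hR (le_bot_iff.1 (le_sup_right.trans h.le))
  -- the unique maximal subgroup
  obtain ⟨K₀, ⟨hK₀, hTK⟩, huniq⟩ := hU
  set Mx := K₀.map H.subtype with hMx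
  have hmax : ∀ X : Subgroup G, (T : Subgroup G) ≤ X → X ≤ H → ¬ H ≤ X → X ≤ Mx := by
    intro X hTX hXH hne x hx
    obtain ⟨K, hK, hle⟩ := (eq_top_or_exists_le_coatom (X.subgroupOf H)).resolve_left
      fun h => hne (subgroupOf_eq_top.1 h)
    rw [huniq K ⟨hK, fun y hy => hle (mem_subgroupOf.2 (hTX (mem_subgroupOf.1 hy)))⟩] at hle
    exact ⟨⟨x, hXH hx⟩, hle (mem_subgroupOf.2 hx), rfl⟩
  have hTMx : (T : Subgroup G) ≤ Mx := fun t ht => ⟨⟨t, hTH ht⟩, hTK (mem_subgroupOf.2 ht), rfl⟩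
  have hMxne : ¬ H ≤ Mx := fun h => hK₀.1 (eq_top_iff.2 fun x _ => by
    obtain ⟨y, hy, e⟩ := h x.2
    exact Subtype.ext e ▸ hy)
  by_contra hno
  push Not at hno
  have hTR : (T : Subgroup G) ≤ normalizer (R : Set G) := hTM.trans hRM
  have hchar : ∀ K : Subgroup ↥L, K ≤ (P : Subgroup ↥L) → (K.subgroupOf (P : Subgroup ↥L)).Characteristic →
      K ≠ ⊥ → normalizer (K : Set ↥L) ≤ Mx.subgroupOf L := by
    intro K hKP hKc hKne g hg
    have hn := hPR ▸ norm_char hKP hKc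
    refine mem_subgroupOf.2 (hmax (H ⊓ normalizer (K.map L.subtype : Set G)) (le_inf hTH (hTR.trans hn))
      inf_le_left (fun hle => ?_) (mem_inf.2 ⟨hLH g.2, le_normalizer_map L.subtype ⟨g, hg, rfl⟩⟩))
    exact hno (K.map L.subtype) (fun h => hKne ((map_eq_bot_iff_of_injective _ L.subtype_injective).1 h))
      ((Subgroup.map_mono hKP).trans hPR.le) (sup_le (hRM.trans hn) (hle.trans inf_le_right))
  set C := Mx.subgroupOf L with hC
  have c : Ctx P C := by
    refine ⟨hL2, sup_le ?_ (iSup_le fun ⟨K, hKB, hKne, hKc⟩ =>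
      hchar K (hKB.trans bau_le) (characteristic_of_bau hKB hKc) hKne)⟩
    exact (centralizer_le_normalizer _).trans (hchar _ (BaumannBlock.omegaOneCenter_le 2 _)
      omega_characteristic (omega_ne_bot hL2))
  have hCtop : C ≠ ⊤ := fun h => hMxne (hHsup.ge.trans (sup_le (le_sup_left.trans (subgroupOf_eq_top.1 h)) hTMx))
  obtain ⟨E, hE⟩ : ∃ E, IsPlane 2 P C E := by
    by_contra hn
    push Not at hn
    refine hCtop (top_le_iff.1 ((sup_planes_eq_top c).ge.trans (sup_le le_rfl (sSup_le fun E hE => ?_))))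
    exact absurd hE.1 (hn E)
  have hMR : M₀ ≤ normalizer (imgP P : Set G) := by rw [hPR]; exact hRM
  have hRT' : imgP P ≤ (T : Subgroup G) := hPR.le.trans hRT
  have hTC : (T : Subgroup G) ≤ normalizer (C.map L.subtype : Set G) := by
    rw [hC, subgroupOf_map_subtype]
    exact (le_inf (hTMx.trans le_normalizer) hTL).trans inf_normalizer_le_normalizer_inf
  have hrk : ∀ A : Subgroup G, IsMulCommutative ↥A → (∀ a ∈ A, a ^ 3 = 1) → A ≤ L → Nat.card ↥A ≤ 9 := by
    intro A hA hA3 hAL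
    have hAN : A ≤ N := (hAL.trans hLH).trans hHQ
    have h := hrank N ⟨Q, CharTwoIn.core_isPGroup H, hQne, rfl⟩ (A.subgroupOf N)
      ⟨⟨fun a b => ?_⟩⟩ fun a ha => Subtype.ext (hA3 a ha)
    · rwa [Nat.card_congr (subgroupOfEquivOfLe hAN).toEquiv] at h
    · refine Subtype.ext (Subtype.ext ?_)
      have h : ((a : ↥N) : G) * ((b : ↥N) : G) = ((b : ↥N) : G) * ((a : ↥N) : G) :=
        congrArg Subtype.val (hA.is_comm.comm (⟨_, mem_subgroupOf.1 a.2⟩ : ↥A) ⟨_, mem_subgroupOf.1 b.2⟩)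
      simpa using h
  have hno' : ∀ m ∈ M₀, cjP m (wG E) ≤ centralizer (wG E : Set G) := fun m hm =>
    not_not.1 (no_adj c hE hMR hTM hRT' hTL hTC hrk heven hm)
  set U := closure {x : G | ∃ m ∈ M₀, x ∈ cjP m (wG E)} with hUdef
  have hWU : wG E ≤ U := fun x hx => subset_closure ⟨1, one_mem _, by rwa [cjP_one]⟩
  have hUR : U ≤ imgP P := (closure_le _).2 fun x ⟨m, hm, hx⟩ => conj_wG_le c hE (hMR hm) hx
  have hUC : U ≤ centralizer (wG E : Set G) := (closure_le _).2 fun x ⟨m, hm, hx⟩ => hno' m hm hx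
  have hMU : M₀ ≤ normalizer (U : Set G) := fun m hm => mem_normalizer_fintype fun x hx => by
    have hle : U ≤ U.comap (MulAut.conj m).toMonoidHom := (closure_le _).2 fun y ⟨k, hk, hy⟩ =>
      subset_closure ⟨m * k, mul_mem hm hk, by rw [cjP_mul]; exact ⟨y, hy, rfl⟩⟩
    exact hle hx
  have hEU : E.map L.subtype ≤ normalizer (U : Set G) := by
    obtain ⟨K, _, _, ⟨X⟩⟩ := plane_frame c hE
    rintro _ ⟨e, he, rfl⟩
    refine mem_normalizer_fintype fun x hx => ?_
    obtain ⟨y, hy, rfl⟩ := hUR hx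
    have hyW : y ∈ centralizer (wMod 2 E : Set ↥L) := mem_centralizer_iff.2 fun w hw =>
      Subtype.ext (mem_centralizer_iff.1 (hUC hx) w ⟨w, hw, rfl⟩)
    have h1 : (⁅y, e⁆ : ↥L) ∈ wMod 2 E := core_eq_wMod c hE rfl ▸ X.comm_cent_core c hE hyW he
    rw [show L.subtype e * L.subtype y * (L.subtype e)⁻¹ = L.subtype (⁅y, e⁆⁻¹) * L.subtype y by
      simp [commutatorElement_def]; group]
    exact mul_mem (hWU ⟨_, inv_mem h1, rfl⟩) hx
  have hgen : H ≤ (T : Subgroup G) ⊔ E.map L.subtype := by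
    by_contra hne
    refine hE.not_le fun e he => mem_subgroupOf.2 ?_
    exact hmax _ le_sup_left (sup_le hTH ((map_subtype_le _).trans hLH)) hne (mem_sup_right ⟨e, he, rfl⟩)
  refine hno U (fun h => ?_) (hUR.trans hPR.le)
    (sup_le hMU (hgen.trans (sup_le (hTM.trans hMU) hEU)))
  exact wMod_not_central hE.block fun w hw => by
    have h1 : (w : G) ∈ (⊥ : Subgroup G) := h ▸ hWU ⟨w, hw, rfl⟩
    rw [show w = 1 from Subtype.ext (mem_bot.1 h1)]
    exact one_mem _

end Cfsg.Lib.Local.CStar
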