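import Cfsg.Agent.Lib.Local.CStar.Movers

/-!
# The components of the modules under a group normalizing the Sylow subgroup

Non-commuting conjugates of the module of `E` form complete bipartite components.  If `T` has at most two
orbits of `P` on the conjugates of `E` then some element exchanges the two sides of the components of the
orbit of `E`.
-/

set_option autoImplicit false
set_option linter.style.haveILetI false
set_option linter.unusedSectionVars false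
set_option maxHeartbeats 1000000

namespace Cfsg.Lib.Local.CStar

open Subgroup Cfsg Cfsg.Lib Cfsg.Lib.Local.GlaubermanZJ Cfsg.Lib.Local.BaumannBlock
  Cfsg.Lib.Local.BlockLevels Cfsg.Lib.Local.BlockSmall Cfsg.Lib.Local.SubBlock
open scoped commutatorElement MatrixGroups

universe u

variable {Γ : Type u} [Group Γ] [Finite Γ] [hp : Fact (Nat.Prime 2)] {L : Subgroup Γ}
  {P : Sylow 2 ↥L} {C E : Subgroup ↥L} {M : Subgroup Γ} {W X Y Z : Subgroup Γ}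

/-- A conjugate under `M`. -/
def IsVtx (M W U : Subgroup Γ) : Prop := ∃ m ∈ M, cjP m W = U

/-- The same neighbours. -/
def Same (M W X Y : Subgroup Γ) : Prop := ∀ U, IsVtx M W U → (Nc U X ↔ Nc U Y)

theorem isVtx_self : IsVtx M W W := ⟨1, one_mem _, cjP_one W⟩

theorem IsVtx.conj {m : Γ} (hm : m ∈ M) (h : IsVtx M W X) : IsVtx M W (cjP m X) := by
  obtain ⟨k, hk, rfl⟩ := h
  exact ⟨m * k, mul_mem hm hk, cjP_mul _ _ _⟩

theorem Same.symm (h : Same M W X Y) : Same M W Y X := fun U hU => (h U hU).symm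

theorem Same.trans (h : Same M W X Y) (h' : Same M W Y Z) : Same M W X Z := fun U hU => (h U hU).trans (h' U hU)

theorem Same.conj {m : Γ} (hm : m ∈ M) (h : Same M W X Y) : Same M W (cjP m X) (cjP m Y) := fun U hU => by
  have h1 := h (cjP m⁻¹ U) (hU.conj (inv_mem hm))
  rw [← nc_conj m, ← cjP_mul, mul_inv_cancel, cjP_one] at h1
  conv at h1 => rhs; rw [← nc_conj m, ← cjP_mul, mul_inv_cancel, cjP_one]
  exact h1

/-- The elements keeping the neighbours of `W`. -/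
def stabN (M W : Subgroup Γ) : Subgroup Γ where
  carrier := {m | m ∈ M ∧ Same M W (cjP m W) W}
  one_mem' := ⟨one_mem _, by rw [cjP_one]; exact fun _ _ => Iff.rfl⟩
  mul_mem' := fun {a b} ha hb => ⟨mul_mem ha.1 hb.1, by
    rw [cjP_mul]
    exact (hb.2.conj ha.1).trans ha.2⟩
  inv_mem' := fun {a} ha => ⟨inv_mem ha.1, by
    have := (ha.2.conj (inv_mem ha.1)).symm
    rwa [← cjP_mul, inv_mul_cancel, cjP_one] at this⟩

variable (c : Ctx P C) (hE : IsPlane 2 P C E) (hMR : M ≤ normalizer (imgP P : Set Γ))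
include c hE hMR

theorem linked_half {U : Subgroup Γ} (hX : IsVtx M (wG E) X) (hY : IsVtx M (wG E) Y) (hZ : IsVtx M (wG E) Z)
    (hU : IsVtx M (wG E) U) (h1 : Nc Z Y) (h2 : Nc Y X) (h3 : Nc U X) : Nc U Z := by
  obtain ⟨m, hm, rfl⟩ := hX
  have hback : ∀ {A}, IsVtx M (wG E) A → ∃ k ∈ M, cjP k (wG E) = cjP m⁻¹ A := fun hA => hA.conj (inv_mem hm)
  obtain ⟨y, hy, ey⟩ := hback hY
  obtain ⟨z, hz, ez⟩ := hback hZ
  obtain ⟨u, hu, eu⟩ := hback hU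
  have cancel : cjP m⁻¹ (cjP m (wG E)) = wG E := cjP_inv m _
  rw [← nc_conj m⁻¹, ← ez, ← ey] at h1
  rw [← nc_conj m⁻¹, ← ey, cancel] at h2
  rw [← nc_conj m⁻¹, ← eu, cancel] at h3
  rw [← nc_conj m⁻¹, ← ez, ← eu]
  by_cases hzW : Nc (cjP z (wG E)) (wG E)
  · exact absurd h1 (movers_commute c (hMR hz) (hMR hy) hE hE hE hE hzW h2)
  · exact (mover_noncommute c (hMR hz) (hMR hy) (hMR hu) hE h2 h3 hzW h1).symm

/-- Vertices at distance two have the same neighbours. -/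
theorem linked (hX : IsVtx M (wG E) X) (hY : IsVtx M (wG E) Y) (hZ : IsVtx M (wG E) Z) (h1 : Nc X Y)
    (h2 : Nc Y Z) : Same M (wG E) X Z := fun U hU =>
  ⟨linked_half c hE hMR hX hY hZ hU h2.symm h1.symm, linked_half c hE hMR hZ hY hX hU h1 h2⟩

theorem sq_mem_stabN {m₀ : Γ} (hm₀ : m₀ ∈ M) (h0 : Nc (cjP m₀ (wG E)) (wG E)) :
    m₀ * m₀ ∈ stabN M (wG E) := by
  refine ⟨mul_mem hm₀ hm₀, linked c hE hMR ⟨_, mul_mem hm₀ hm₀, rfl⟩ ⟨m₀, hm₀, rfl⟩ isVtx_self ?_ h0⟩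
  rw [cjP_mul, nc_conj]
  exact h0

theorem mem_normalizer_stabN {m₀ : Γ} (hm₀ : m₀ ∈ M) (h0 : Nc (cjP m₀ (wG E)) (wG E)) :
    m₀ ∈ normalizer (stabN M (wG E) : Set Γ) := mem_normalizer_fintype fun σ hσ => by
  refine ⟨mul_mem (mul_mem hm₀ hσ.1) (inv_mem hm₀), ?_⟩
  have hY : IsVtx M (wG E) (cjP m₀⁻¹ (wG E)) := isVtx_self.conj (inv_mem hm₀)
  have h1 : Nc (wG E) (cjP m₀⁻¹ (wG E)) := by
    rw [← nc_conj m₀, ← cjP_mul, mul_inv_cancel, cjP_one]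
    exact h0
  have h2 : Nc (cjP σ (cjP m₀⁻¹ (wG E))) (wG E) :=
    (hσ.2 _ (hY.conj hσ.1)).1 ((nc_conj σ).2 h1.symm)
  have h3 := (linked c hE hMR (hY.conj hσ.1) isVtx_self hY h2 h1).conj hm₀
  rw [cjP_mul, cjP_mul]
  rwa [← cjP_mul m₀ m₀⁻¹, mul_inv_cancel, cjP_one] at h3

theorem nc_stab_mul {m₀ σ : Γ} (hm₀ : m₀ ∈ M) (h0 : Nc (cjP m₀ (wG E)) (wG E))
    (hσ : σ ∈ stabN M (wG E)) : Nc (cjP (σ * m₀) (wG E)) (wG E) :=
  (hσ.2 _ (isVtx_self.conj (mul_mem hσ.1 hm₀))).1 (by rw [cjP_mul, nc_conj]; exact h0)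

variable {T : Sylow 2 Γ} (hTM : (T : Subgroup Γ) ≤ M) (hRT : imgP P ≤ (T : Subgroup Γ))
  (hTL : (T : Subgroup Γ) ≤ normalizer (L : Set Γ)) (hTC : (T : Subgroup Γ) ≤ normalizer (C.map L.subtype : Set Γ))
include hTM hRT hTL hTC

theorem plane_at {t : Γ} (ht : t ∈ (T : Subgroup Γ)) :
    ∃ F : Subgroup ↥L, IsPlane 2 P C F ∧ F.map L.subtype = cjP t (E.map L.subtype) ∧
      wG F = cjP t (wG E) ∧ Nat.card ↥(orb (P : Subgroup ↥L) F) = Nat.card ↥(orb (P : Subgroup ↥L) E) :=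
  exists_plane_conj hE (hTL ht) (hMR (hTM ht)) (hTC ht)

theorem planes_commute_at {t t' : Γ} (ht : t ∈ (T : Subgroup Γ)) (ht' : t' ∈ (T : Subgroup Γ)) :
    ¬ Nc (cjP t (wG E)) (cjP t' (wG E)) := by
  obtain ⟨F, hF, -, e, -⟩ := plane_at c hE hMR hTM hRT hTL hTC ht
  obtain ⟨F', hF', -, e', -⟩ := plane_at c hE hMR hTM hRT hTL hTC ht'
  rw [← e, ← e']
  exact planes_commute c hF hF'

omit hMR in
theorem cjP_wG_of_norm (hMR : M ≤ normalizer (imgP P : Set Γ)) {t : Γ} (ht : t ∈ (T : Subgroup Γ))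
    (hn : t ∈ normalizer (E.map L.subtype : Set Γ)) : cjP t (wG E) = wG E := by
  obtain ⟨F, -, e, e', -⟩ := plane_at c hE hMR hTM hRT hTL hTC ht
  rw [← e']
  rw [cjP_eq_iff.2 hn] at e
  rw [map_injective L.subtype_injective e]

/-- In `T` the elements of `S₁ P` are those of `P N_T(E)`. -/
theorem mem_of_stabN {m₀ t : Γ} (hm₀ : m₀ ∈ M) (h0 : Nc (cjP m₀ (wG E)) (wG E))
    (ht : t ∈ (T : Subgroup Γ)) (h : t ∈ stabN M (wG E) ⊔ imgP P) :
    t ∈ imgP P ⊔ (T : Subgroup Γ) ⊓ normalizer (E.map L.subtype : Set Γ) := by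
  obtain ⟨σ, hσ, q, hq, rfl⟩ := (Core.mem_sup_of_le_normalizer (fun σ (hσ : σ ∈ stabN M (wG E)) => hMR hσ.1)).1 h
  have hσT : σ ∈ (T : Subgroup Γ) := by simpa using mul_mem ht (inv_mem (hRT hq))
  refine mul_mem (mem_sup_right (mem_inf.2 ⟨hσT, cjP_eq_iff.1 ?_⟩)) (mem_sup_left hq)
  obtain ⟨F, hF, e, e', -⟩ := plane_at c hE hMR hTM hRT hTL hTC hσT
  by_contra hne
  refine mover_unique c (hMR hm₀) hE hE hF h0 (fun hFE => hne (by rw [← e, hFE])) ?_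
  rw [e']
  exact (hσ.2 _ (isVtx_self.conj hm₀)).2 h0

/-- Some element exchanges the two sides of the components of the orbit of `E`. -/
theorem exists_exchange
    (hthree : ∀ t ∈ (T : Subgroup Γ), ∀ t' ∈ (T : Subgroup Γ),
      t ∉ imgP P ⊔ (T : Subgroup Γ) ⊓ normalizer (E.map L.subtype : Set Γ) →
      t' ∉ imgP P ⊔ (T : Subgroup Γ) ⊓ normalizer (E.map L.subtype : Set Γ) →
      t⁻¹ * t' ∈ imgP P ⊔ (T : Subgroup Γ) ⊓ normalizer (E.map L.subtype : Set Γ))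
    {m₀ : Γ} (hm₀ : m₀ ∈ M) (h0 : Nc (cjP m₀ (wG E)) (wG E)) :
    ∃ (t : Γ) (S : Sylow 2 Γ) (s : Γ), t ∈ (T : Subgroup Γ) ∧
      t ∉ imgP P ⊔ (T : Subgroup Γ) ⊓ normalizer (E.map L.subtype : Set Γ) ∧
      (S : Subgroup Γ) ≤ M ∧ s ∈ (S : Subgroup Γ) ∧
      imgP P ⊔ (T : Subgroup Γ) ⊓ normalizer (E.map L.subtype : Set Γ) ≤ (S : Subgroup Γ) ∧
      s ∈ normalizer ((imgP P ⊔ (T : Subgroup Γ) ⊓ normalizer (E.map L.subtype : Set Γ) : Subgroup Γ) : Set Γ) ∧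
      s * s ∈ imgP P ⊔ (T : Subgroup Γ) ⊓ normalizer (E.map L.subtype : Set Γ) ∧
      (S : Subgroup Γ) ≤ imgP P ⊔ (T : Subgroup Γ) ⊓ normalizer (E.map L.subtype : Set Γ) ⊔ zpowers s ∧
      ∀ q ∈ imgP P, ∃ q' ∈ imgP P, Nc (cjP (s * q) (wG E)) (cjP q' (wG E)) := by
  set U₀ := imgP P ⊔ (T : Subgroup Γ) ⊓ normalizer (E.map L.subtype : Set Γ) with hU₀
  set S₁ := stabN M (wG E) with hS₁
  set P₁ := S₁ ⊔ imgP P with hP₁
  set B₂ := P₁ ⊔ zpowers m₀ with hB₂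
  have hU₀T : U₀ ≤ (T : Subgroup Γ) := sup_le hRT inf_le_left
  have hU₀P : U₀ ≤ P₁ := by
    refine sup_le le_sup_right fun u hu => mem_sup_left ⟨hTM (mem_inf.1 hu).1, ?_⟩
    rw [cjP_wG_of_norm c hE hTM hRT hTL hTC hMR (mem_inf.1 hu).1 (mem_inf.1 hu).2]
    exact fun _ _ => Iff.rfl
  have hRM : imgP P ≤ M := hRT.trans hTM
  have hP₁M : P₁ ≤ M := sup_le (fun σ hσ => hσ.1) hRM
  have hB₂M : B₂ ≤ M := sup_le hP₁M (zpowers_le.2 hm₀)
  have hm₀n : m₀ ∈ normalizer (P₁ : Set Γ) := by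
    have h1 := mem_normalizer_stabN c hE hMR hm₀ h0
    rw [hP₁, ← cjP_eq_iff, cjP, Subgroup.map_sup]
    exact congrArg₂ (· ⊔ ·) (cjP_eq_iff.2 h1) (cjP_eq_iff.2 (hMR hm₀))
  have hsq : m₀ * m₀ ∈ P₁ := mem_sup_left (sq_mem_stabN c hE hMR hm₀ h0)
  have hm₀P : m₀ ∉ P₁ := fun h => by
    obtain ⟨σ, hσ, q, hq, rfl⟩ := (Core.mem_sup_of_le_normalizer (fun σ (hσ : σ ∈ stabN M (wG E)) => hMR hσ.1)).1 h
    have h1 := (hσ.2 _ (isVtx_self.conj hm₀)).2 h0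
    rw [cjP_mul, nc_conj] at h1
    exact planes_commute_at c hE hMR hTM hRT hTL hTC (hRT hq) (one_mem _) (by rwa [cjP_one])
  -- the other elements of `B₂`
  have hout : ∀ g ∈ B₂, g ∉ P₁ → ∃ σ ∈ S₁, ∃ q ∈ imgP P, g = σ * m₀ * q := by
    intro g hg hgP
    obtain ⟨z, hz, x, hx, rfl⟩ := (Core.mem_sup_of_le_normalizer (zpowers_le.2 hm₀n)).1
      (show g ∈ zpowers m₀ ⊔ P₁ by rwa [sup_comm])
    obtain ⟨k, rfl⟩ := Subgroup.mem_zpowers_iff.1 hz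
    have hev : ∀ j : ℤ, m₀ ^ (2 * j) ∈ P₁ := fun j => by
      rw [zpow_mul, zpow_two]; exact zpow_mem hsq j
    rcases Int.even_or_odd' k with ⟨j, rfl | rfl⟩
    · exact absurd (mul_mem (hev j) hx) hgP
    have hg1 : m₀ ^ (2 * j) * (m₀ * x * m₀⁻¹) ∈ P₁ :=
      mul_mem (hev j) ((mem_normalizer_iff.1 hm₀n x).1 hx)
    obtain ⟨σ, hσ, q, hq, e⟩ := (Core.mem_sup_of_le_normalizer (fun σ (hσ : σ ∈ stabN M (wG E)) => hMR hσ.1)).1 hg1
    refine ⟨σ, hσ, m₀⁻¹ * q * m₀, (mem_normalizer_iff''.1 (hMR hm₀) q).1 hq, ?_⟩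
    rw [show σ * m₀ * (m₀⁻¹ * q * m₀) = (σ * q) * m₀ by group, e, zpow_add_one]
    group
  have hTB : (T : Subgroup Γ) ⊓ B₂ ≤ P₁ := by
    intro g hg
    by_contra hgP
    obtain ⟨σ, hσ, q, hq, rfl⟩ := hout g (mem_inf.1 hg).2 hgP
    have h1 := nc_stab_mul c hE hMR hm₀ h0 hσ
    have hmem : σ * m₀ ∈ (T : Subgroup Γ) := by simpa using mul_mem (mem_inf.1 hg).1 (inv_mem (hRT hq))
    exact planes_commute_at c hE hMR hTM hRT hTL hTC hmem (one_mem _) (by rwa [cjP_one])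
  have heven : 2 ∣ P₁.relIndex B₂ := by
    haveI : (P₁.subgroupOf B₂).Normal :=
      (normal_subgroupOf_iff_le_normalizer le_sup_left).2 (sup_le le_normalizer (zpowers_le.2 hm₀n))
    let x : ↥B₂ := ⟨m₀, mem_sup_right (mem_zpowers m₀)⟩
    have h2 : orderOf (QuotientGroup.mk' (P₁.subgroupOf B₂) x) = 2 := by
      refine orderOf_eq_prime ?_ fun h => hm₀P (mem_subgroupOf.1 ((QuotientGroup.eq_one_iff _).1 h))
      rw [← map_pow]
      exact (QuotientGroup.eq_one_iff _).2 (mem_subgroupOf.2 (by simpa [pow_two] using hsq))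
    rw [← h2]
    exact _root_.orderOf_dvd_natCard _
  have hTfac := T.card_eq_multiplicity
  -- `T` is not inside `P₁`
  obtain ⟨t, ht, htU⟩ : ∃ t ∈ (T : Subgroup Γ), t ∉ U₀ := by
    by_contra hall
    push Not at hall
    have hd1 : Nat.card ↥(T : Subgroup Γ) ∣ Nat.card ↥P₁ := Subgroup.card_dvd_of_le fun x hx => hU₀P (hall x hx)
    have hd2 : 2 * Nat.card ↥(T : Subgroup Γ) ∣ Nat.card Γ := by
      rw [mul_comm]
      refine dvd_trans ?_ (Subgroup.card_subgroup_dvd_card B₂)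
      rw [← Core.card_mul_relIndex (le_sup_left : P₁ ≤ B₂)]
      exact mul_dvd_mul hd1 heven
    rw [hTfac, ← pow_succ'] at hd2
    exact absurd ((Nat.Prime.pow_dvd_iff_le_factorization Nat.prime_two Nat.card_pos.ne').1 hd2) (by omega)
  have hidx : U₀.relIndex (T : Subgroup Γ) = 2 := by
    refine Subgroup.index_eq_two_iff.2 ⟨⟨t, ht⟩, fun b => ?_⟩
    simp only [mem_subgroupOf, coe_mul]
    by_cases hb : (b : Γ) ∈ U₀
    · exact Or.inr ⟨hb, fun h => htU (by simpa using mul_mem (inv_mem hb) h)⟩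
    · refine Or.inl ⟨?_, hb⟩
      simpa using hthree (b : Γ)⁻¹ (inv_mem b.2) t ht (fun h => hb (by simpa using inv_mem h)) htU
  have hTcard : Nat.card ↥(T : Subgroup Γ) = Nat.card ↥U₀ * 2 := by
    rw [← Core.card_mul_relIndex hU₀T, hidx]
  obtain ⟨n, hn⟩ := (T.isPGroup'.to_le hU₀T).exists_card_eq
  have hTn : Nat.card ↥(T : Subgroup Γ) = 2 ^ (n + 1) := by rw [hTcard, hn, pow_succ]
  have hdvd : 2 ^ (n + 1) ∣ Nat.card ↥B₂ := by
    rw [← Core.card_mul_relIndex (le_sup_left : P₁ ≤ B₂), pow_succ]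
    exact mul_dvd_mul (hn ▸ Subgroup.card_dvd_of_le hU₀P) heven
  obtain ⟨K, hK, hUK⟩ := Sylow.exists_subgroup_card_pow_succ hdvd
    (H := U₀.subgroupOf B₂)
    (by rw [Nat.card_congr (subgroupOfEquivOfLe (hU₀P.trans le_sup_left)).toEquiv, hn])
  set K' := K.map B₂.subtype with hK'
  have hK'c : Nat.card ↥K' = 2 ^ (n + 1) := by
    rw [hK', card_map_of_injective B₂.subtype_injective, hK]
  let S : Sylow 2 Γ := Sylow.ofCard K' (by rw [hK'c, ← hTn, hTfac])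
  have hSe : (S : Subgroup Γ) = K' := Sylow.coe_ofCard _ _
  have hUK' : U₀ ≤ K' := fun x hx => ⟨⟨x, hU₀P.trans le_sup_left hx⟩, hUK hx, rfl⟩
  have hKB : K' ≤ B₂ := map_subtype_le _
  have hidx' : U₀.relIndex K' = 2 := by
    have h := Core.card_mul_relIndex hUK'
    rw [hK'c, hn, pow_succ] at h
    exact Nat.eq_of_mul_eq_mul_left (Nat.two_pow_pos n) h
  obtain ⟨s, hsK, hsP⟩ : ∃ s ∈ K', s ∉ P₁ := by
    refine SetLike.not_le_iff_exists.1 fun hle => ?_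
    have hd1 : 2 ^ (n + 1) ∣ Nat.card ↥P₁ := hK'c ▸ Subgroup.card_dvd_of_le hle
    have hd2 : 2 ^ (n + 1 + 1) ∣ Nat.card Γ := by
      refine dvd_trans ?_ (Subgroup.card_subgroup_dvd_card B₂)
      rw [← Core.card_mul_relIndex (le_sup_left : P₁ ≤ B₂), pow_succ]
      exact mul_dvd_mul hd1 heven
    have h3 := (Nat.Prime.pow_dvd_iff_le_factorization Nat.prime_two Nat.card_pos.ne').1 hd2
    have h4 := hTn.symm.trans hTfac
    have := Nat.pow_right_injective le_rfl h4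
    omega
  have hsU : s ∉ U₀ := fun h => hsP (hU₀P h)
  have hnorm : K' ≤ normalizer (U₀ : Set Γ) :=
    (normal_subgroupOf_iff_le_normalizer hUK').1 (Subgroup.normal_of_index_eq_two hidx')
  have hgen : K' ≤ U₀ ⊔ zpowers s := by
    have h1 := relIndex_mul_relIndex U₀ (U₀ ⊔ zpowers s) K' le_sup_left (sup_le hUK' (zpowers_le.2 hsK))
    rw [hidx'] at h1
    have h2 : U₀.relIndex (U₀ ⊔ zpowers s) ≠ 1 := fun h =>
      hsU (relIndex_eq_one.1 h (mem_sup_right (mem_zpowers s)))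
    refine relIndex_eq_one.1 ?_
    rcases (Nat.dvd_prime Nat.prime_two).1 ⟨_, h1.symm⟩ with h | h
    · exact absurd h h2
    · rw [h] at h1; omega
  obtain ⟨σ, hσ, r, hr, rfl⟩ := hout s (hKB hsK) hsP
  refine ⟨t, S, σ * m₀ * r, ht, htU, hSe ▸ hKB.trans hB₂M, hSe ▸ hsK, hSe ▸ hUK', hnorm hsK, ?_,
    hSe ▸ hgen, fun q hq => ?_⟩
  · exact mem_subgroupOf.1 (Subgroup.mul_self_mem_of_index_two hidx' ⟨_, hsK⟩)
  · have hσm : σ * m₀ ∈ normalizer (imgP P : Set Γ) := hMR (mul_mem hσ.1 hm₀)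
    set q₃ := (σ * m₀) * (r * q) * (σ * m₀)⁻¹ with hq₃
    refine ⟨q₃, (mem_normalizer_iff.1 hσm _).1 (mul_mem hr hq), ?_⟩
    rw [show σ * m₀ * r * q = q₃ * (σ * m₀) by rw [hq₃]; group, cjP_mul, nc_conj]
    exact nc_stab_mul c hE hMR hm₀ h0 hσ

end Cfsg.Lib.Local.CStar
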