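import Cfsg.Agent.Lib.Local.CStar.Fibre

/-!
# Planes in different orbits

Linked planes whose orbits have the same size lie in one orbit.  Planes in different orbits of one size commute,
and each has an element of order three.
-/

set_option autoImplicit false
set_option linter.style.haveILetI false
set_option linter.unusedSectionVars false
set_option maxHeartbeats 1000000

namespace Cfsg.Lib.Local.CStar

open Subgroup Cfsg Cfsg.Lib Cfsg.Lib.Local.GlaubermanZJ Cfsg.Lib.Local.BaumannBlock
  Cfsg.Lib.Local.BlockLevels Cfsg.Lib.Local.BlockSmall Cfsg.Lib.Local.SubBlock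
open scoped commutatorElement MatrixGroups

universe u

variable {G : Type u} [Group G] [Finite G] {p : ℕ} [hp : Fact p.Prime] {T : Sylow p G}
  {C E F : Subgroup G}

theorem IsPlane.map_auto (hE : IsPlane p T C E) (e : G ≃* G)
    (hT : (T : Subgroup G).map e.toMonoidHom = (T : Subgroup G)) (hC : C.map e.toMonoidHom = C) :
    IsPlane p T C (E.map e.toMonoidHom) := by
  refine ⟨?_, fun h => hE.not_le ?_, (isSL_map_iff _ e.injective E).2 hE.sl⟩
  · have := SubBlock.map_block e hE.block
    rwa [hT] at this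
  · rw [← hC] at h
    exact (map_le_map_iff_of_injective e.injective).1 h

theorem card_orb_map (e : G ≃* G) (hT : (T : Subgroup G).map e.toMonoidHom = (T : Subgroup G)) (E : Subgroup G) :
    Nat.card ↥(orb (T : Subgroup G) (E.map e.toMonoidHom)) = Nat.card ↥(orb (T : Subgroup G) E) := by
  have h : orb (T : Subgroup G) (E.map e.toMonoidHom) =
      (Subgroup.map e.toMonoidHom) '' orb (T : Subgroup G) E := by
    have key : ∀ t : G, (cjP t E).map e.toMonoidHom = cjP (e t) (E.map e.toMonoidHom) := fun t => by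
      rw [cjP, cjP, Subgroup.map_map, Subgroup.map_map]
      congr 1
      ext x
      simp
    ext D
    constructor
    · rintro ⟨t, ht, rfl⟩
      obtain ⟨t', ht', rfl⟩ := hT.ge ht
      exact ⟨cjP t' E, ⟨t', ht', rfl⟩, key t'⟩
    · rintro ⟨_, ⟨t, ht, rfl⟩, rfl⟩
      exact ⟨e t, hT.le ⟨t, ht, rfl⟩, (key t).symm⟩
  rw [h]
  exact Nat.card_image_of_injective (map_injective e.injective) _

/-- Linked planes with orbits of one size lie in one orbit. -/
theorem orb_of_cls (c : Ctx T C) (hE : IsPlane p T C E) (hF : F ∈ cls p T C E)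
    (hcard : Nat.card ↥(orb (T : Subgroup G) F) = Nat.card ↥(orb (T : Subgroup G) E)) :
    F ∈ orb (T : Subgroup G) E := by
  classical
  rcases cls_cases c hE with h1 | ⟨_, -, -, h⟩
  · rw [h1] at hF
    exact (Set.mem_singleton_iff.1 hF) ▸ self_mem_orb
  set S := cls p T C E with hS0
  haveI : Fintype ↥S := Fintype.ofFinite _
  have hmem : sSup S ∈ members p T C := member_mem hE
  have hES : E ∈ S := self_mem_cls hE
  set K := (T : Subgroup G) ⊓ normalizer ((sSup S : Subgroup G) : Set G) with hK
  have hsub : ∀ {D : Subgroup G}, orb K D ⊆ orb (T : Subgroup G) D := by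
    rintro D _ ⟨t, ht, e⟩
    exact ⟨t, (mem_inf.1 ht).1, e⟩
  by_contra hnot
  have heq : Nat.card ↥(orb K F) = Nat.card ↥(orb K E) :=
    Nat.eq_of_mul_eq_mul_right (Nat.pos_of_ne_zero index_ne_zero_of_finite)
      ((card_orb_mul h hmem hF).trans (hcard.trans (card_orb_mul h hmem hES).symm))
  have hd : Disjoint (orb K E) (orb K F) := Set.disjoint_left.2 fun D hD hD' =>
    hnot (hsub (by rw [← orb_eq hD, orb_eq hD']; exact self_mem_orb))
  set S' := orb K E ∪ orb K F with hS'
  haveI : Fintype ↥S' := Fintype.ofFinite _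
  have hS : S' ⊆ S := Set.union_subset (orb_inter h hmem hES) (orb_inter h hmem hF)
  have hinv : ∀ t ∈ K, ∀ D ∈ S', cjP t D ∈ S' := fun t ht D hD => hD.imp (orb_closed · ht) (orb_closed · ht)
  set s : Finset ↥S' := Finset.univ.filter fun i => i.1 ∈ orb K E with hs
  have hfix := fixes_lam h hmem hS hinv s fun t ht i hi j hj => by
    rw [hs, Finset.mem_filter] at hi ⊢
    refine ⟨Finset.mem_univ _, hj ▸ orb_closed hi.2 ?_⟩
    exact mem_inf.2 ⟨(mem_inf.1 ht).1, le_normalizer (sSup_le_sSup hS (mem_inf.1 ht).2)⟩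
  have hodd := (h.mono hS).choose_odd (not_dvd_sub h hmem hS hinv) s hfix
  have hscard : s.card = Nat.card ↥(orb K E) := by
    rw [hs, ← Fintype.card_subtype, ← Nat.card_eq_fintype_card]
    exact Nat.card_congr
      ⟨fun i => ⟨i.1.1, i.2⟩, fun i => ⟨⟨i.1, Or.inl i.2⟩, i.2⟩, fun i => rfl, fun i => rfl⟩
  have hcard' : Fintype.card ↥S' = 2 * Nat.card ↥(orb K E) := by
    rw [← Nat.card_eq_fintype_card, Nat.card_coe_set_eq, hS', Set.ncard_union_eq hd (Set.toFinite _) (Set.toFinite _),
      ← Nat.card_coe_set_eq, ← Nat.card_coe_set_eq, heq, two_mul]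
  rw [hcard', hscard] at hodd
  exact hodd (Nat.two_dvd_centralBinom_of_one_le (card_orb_pos K E))

/-- Planes in different orbits of one size commute. -/
theorem commute_of_orb (c : Ctx T C) (hE : IsPlane p T C E) (hF : IsPlane p T C F)
    (hcard : Nat.card ↥(orb (T : Subgroup G) F) = Nat.card ↥(orb (T : Subgroup G) E))
    (hne : F ∉ orb (T : Subgroup G) E) : ∀ x ∈ E, ∀ y ∈ F, Commute x y := by
  classical
  by_cases he : sSup (cls p T C E) = sSup (cls p T C F)
  · exfalso
    have hle : F ≤ sSup (cls p T C E) := (le_member hF).trans he.ge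
    refine hne (orb_of_cls c hE ?_ hcard)
    rcases cls_cases c hE with h1 | ⟨_, -, -, h⟩
    · rcases cls_cases c hF with h2 | ⟨_, -, -, h'⟩
      · rw [h1, h2, sSup_singleton, sSup_singleton] at he
        exact ⟨hF, Or.inl he.symm⟩
      · haveI : Fintype ↥(cls p T C F) := Fintype.ofFinite _
        have heF := h'.plane_mem hE ((le_member hE).trans he.le)
        exact (cls_eq c hF heF).ge (self_mem_cls hF)
    · haveI : Fintype ↥(cls p T C E) := Fintype.ofFinite _
      exact h.plane_mem hF hle
  · intro x hx y hy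
    have h := commutator_eq_bot_iff_le_centralizer.1 (members_commute c (member_mem hE) (member_mem hF) he)
    exact (mem_centralizer_iff.1 (h (le_member hE hx)) y (le_member hF hy)).symm

/-- A plane has an element of order three acting on its module. -/
theorem exists_three (c : Ctx T C) (hE : IsPlane p T C E) (hp2 : p = 2) :
    ∃ x ∈ E, x ^ 3 = 1 ∧ x ∉ centralizer (wMod p E : Set G) := by
  obtain ⟨K, _, _, ⟨X⟩⟩ := plane_frame c hE
  haveI : CharP K p := X.P.charP
  have h20 : (2 : K) = 0 := by
    have := CharP.cast_eq_zero K p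
    rw [hp2] at this
    exact_mod_cast this
  set g : SL(2, K) := ⁅loS (1 : K), upS (1 : K)⁆ with hgd
  have hg : ∀ v : Fin 2 → K, (g : Matrix (Fin 2) (Fin 2) K).mulVec v = ![v 1, v 0 + v 1] := by
    intro v
    have hinv : (loS (1 : K))⁻¹ = loS 1 ∧ (upS (1 : K))⁻¹ = upS 1 := by
      constructor <;> refine inv_eq_of_mul_eq_one_right (sl_ext fun w => ?_)
      · rw [Matrix.SpecialLinearGroup.coe_mul, ← Matrix.mulVec_mulVec, loS_apply, loS_apply,
          Matrix.SpecialLinearGroup.coe_one, Matrix.one_mulVec]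
        ext i
        fin_cases i
        · simp
        · simp only [Fin.mk_one, Matrix.cons_val_one, Matrix.cons_val_zero, Fin.isValue]
          linear_combination (w 0) * h20
      · rw [Matrix.SpecialLinearGroup.coe_mul, ← Matrix.mulVec_mulVec, upS_apply, upS_apply,
          Matrix.SpecialLinearGroup.coe_one, Matrix.one_mulVec]
        ext i
        fin_cases i
        · simp only [Fin.zero_eta, Matrix.cons_val_one, Matrix.cons_val_zero, Fin.isValue]
          linear_combination (w 1) * h20
        · simp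
    rw [hgd, commutatorElement_def, hinv.1, hinv.2]
    simp only [Matrix.SpecialLinearGroup.coe_mul, ← Matrix.mulVec_mulVec, loS_apply, upS_apply]
    ext i
    fin_cases i
    · simp only [Fin.zero_eta, Matrix.cons_val_one, Matrix.cons_val_zero, Fin.isValue]
      linear_combination (v 0 + v 1) * h20
    · simp only [Fin.mk_one, Matrix.cons_val_one, Matrix.cons_val_zero, Fin.isValue]
      linear_combination (v 0 + 2 * v 1) * h20
  have hne : g ≠ 1 := fun h => by
    have := hg ![(1 : K), 0]
    rw [h, Matrix.SpecialLinearGroup.coe_one, Matrix.one_mulVec] at this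
    simpa using congrFun this 0
  have h3 : g ^ 3 = 1 := sl_ext fun v => by
    rw [pow_succ, pow_succ, pow_one]
    simp only [Matrix.SpecialLinearGroup.coe_mul, ← Matrix.mulVec_mulVec, hg,
      Matrix.SpecialLinearGroup.coe_one, Matrix.one_mulVec]
    ext i
    fin_cases i
    · simp only [Fin.zero_eta, Matrix.cons_val_one, Matrix.cons_val_zero, Fin.isValue]
      linear_combination (v 1) * h20
    · simp only [Fin.mk_one, Matrix.cons_val_one, Matrix.cons_val_zero, Fin.isValue]
      linear_combination (v 0 + v 1) * h20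
  haveI : Fact (Nat.Prime 3) := ⟨Nat.prime_three⟩
  have hgr : g ∈ X.P.ρ.range := X.P.range.ge (commutator_mem_commutator (mem_top _) (mem_top _))
  have hd : 3 ∣ Nat.card ↥E := by
    rw [← orderOf_eq_prime h3 hne]
    exact (Subgroup.orderOf_dvd_natCard _ hgr).trans (Subgroup.card_range_dvd X.P.ρ)
  obtain ⟨x, hx⟩ := exists_prime_orderOf_dvd_card' 3 hd
  refine ⟨(x : G), x.2, ?_, fun hxW => ?_⟩
  · rw [← SubgroupClass.coe_pow, ← hx, pow_orderOf_eq_one]
    rfl
  · have hρ : X.P.ρ x = 1 := sl_ext fun v => by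
      obtain ⟨w, hw, hv⟩ := X.cf_surj v
      have := X.cf_elem x (wMod_le E hw)
      rw [← mem_centralizer_iff.1 hxW w hw, mul_inv_cancel_right, hv] at this
      rw [← this, Matrix.SpecialLinearGroup.coe_one, Matrix.one_mulVec]
    have hxQ := (X.P.kerρ x).1 hρ
    obtain ⟨k, hk⟩ := Local.pCoreOf_isPGroup (p := p) E ⟨(x : G), hxQ⟩
    have hd' : orderOf x ∣ p ^ k := orderOf_dvd_of_pow_eq_one (Subtype.ext (by
      simpa using congrArg Subtype.val hk))
    rw [hx, hp2] at hd'
    exact absurd (Nat.prime_three.dvd_of_dvd_pow hd') (by norm_num)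

/-- Adjoining an element of order three which centralizes a subgroup. -/
theorem card_sup_three {A : Subgroup G} {x : G} (h3 : x ^ 3 = 1) (hc : A ≤ centralizer ({x} : Set G))
    (hx : x ∉ A) : Nat.card ↥(A ⊔ zpowers x : Subgroup G) = 3 * Nat.card ↥A := by
  haveI : Fact (Nat.Prime 3) := ⟨Nat.prime_three⟩
  have ho : Nat.card ↥(zpowers x) = 3 := by
    rw [Nat.card_zpowers]
    exact orderOf_eq_prime h3 fun h => hx (h ▸ one_mem A)
  have hn : zpowers x ≤ normalizer (A : Set G) := zpowers_le.2 (mem_normalizer_fintype fun a ha => by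
    rwa [← mem_centralizer_singleton_iff.1 (hc ha), mul_inv_cancel_right])
  have hinf : A ⊓ zpowers x = ⊥ := by
    rcases (Nat.dvd_prime Nat.prime_three).1 (ho ▸ Subgroup.card_dvd_of_le (inf_le_right : A ⊓ zpowers x ≤ _)) with
      h | h
    · exact Subgroup.eq_bot_of_card_eq _ h
    · exact absurd (mem_inf.1 ((Subgroup.eq_of_le_of_card_ge inf_le_right (ho.trans h.symm).le).ge
        (mem_zpowers x))).1 hx
  have h1 := PMinOff.card_sup_mul_inf hn
  rw [hinf, Subgroup.card_bot, mul_one, ho, mul_comm] at h1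
  exact h1

end Cfsg.Lib.Local.CStar
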