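import Cfsg.Agent.Lib.Local.CStar.OddAut
import Cfsg.Agent.Lib.Local.CStar.Linked

/-!
# Conjugates of the module of a plane

`L` lies in `Γ` with Sylow subgroup `P` and `n` normalizes `P`.  The conjugate under `n` of the module of a plane
moves at most one plane, two such conjugates which move planes commute, and a conjugate fixing the module of `Z`
does not separate two conjugates moving `Z`.
-/

set_option autoImplicit false
set_option linter.style.haveILetI false
set_option linter.unusedSectionVars false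
set_option maxHeartbeats 1000000

namespace Cfsg.Lib.Local.CStar

open Subgroup Cfsg Cfsg.Lib Cfsg.Lib.Local.GlaubermanZJ Cfsg.Lib.Local.BaumannBlock
  Cfsg.Lib.Local.BlockLevels Cfsg.Lib.Local.BlockSmall Cfsg.Lib.Local.SubBlock
open scoped commutatorElement MatrixGroups

universe u

variable {Γ : Type u} [Group Γ] [Finite Γ] [hp : Fact (Nat.Prime 2)] {L : Subgroup Γ}

/-- The Sylow subgroup in the large group. -/
abbrev imgP (P : Sylow 2 ↥L) : Subgroup Γ := (P : Subgroup ↥L).map L.subtype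

/-- The module of a plane in the large group. -/
abbrev wG (F : Subgroup ↥L) : Subgroup Γ := (wMod 2 F).map L.subtype

/-- Two subgroups do not commute. -/
def Nc (A B : Subgroup Γ) : Prop := ¬ A ≤ centralizer (B : Set Γ)

theorem Nc.symm {A B : Subgroup Γ} (h : Nc A B) : Nc B A := fun h' => h (le_centralizer_iff.1 h')

theorem nc_iff {A B : Subgroup Γ} :
    Nc A B ↔ ∃ a ∈ A, ∃ b ∈ B, ¬ Commute a b := by
  constructor
  · intro h
    obtain ⟨a, ha, hn⟩ := SetLike.not_le_iff_exists.1 h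
    by_contra hc
    push Not at hc
    exact hn (mem_centralizer_iff.2 fun b hb => (hc a ha b hb).eq.symm)
  · rintro ⟨a, ha, b, hb, hn⟩ h
    exact hn (mem_centralizer_iff.1 (h ha) b hb).symm

theorem nc_conj (g : Γ) {A B : Subgroup Γ} : Nc (cjP g A) (cjP g B) ↔ Nc A B := by
  refine not_congr ⟨fun h a ha => ?_, fun h => ?_⟩
  · exact (conj_centralizer_iff (n := g)).1 (h ⟨a, ha, rfl⟩)
  · rintro _ ⟨a, ha, rfl⟩
    exact conj_centralizer_iff.2 (h ha)

theorem nc_subgroupOf {A B : Subgroup Γ} (hA : A ≤ L) (hB : B ≤ L) :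
    Nc A B ↔ ¬ A.subgroupOf L ≤ centralizer (B.subgroupOf L : Set ↥L) := by
  refine not_congr ⟨fun h a ha => mem_centralizer_iff.2 fun b hb =>
    Subtype.ext (mem_centralizer_iff.1 (h (mem_subgroupOf.1 ha)) b hb), fun h a ha => ?_⟩
  exact mem_centralizer_iff.2 fun b hb =>
    congrArg Subtype.val (mem_centralizer_iff.1 (h (x := ⟨a, hA ha⟩) ha) ⟨b, hB hb⟩ hb)

variable {P : Sylow 2 ↥L} {C E F Z Z' : Subgroup ↥L} {n m : Γ}

theorem wG_le (c : Ctx P C) (hF : IsPlane 2 P C F) : wG F ≤ imgP P := Subgroup.map_mono (wMod_le_T c hF)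

theorem conj_wG_le (c : Ctx P C) (hF : IsPlane 2 P C F) (hn : n ∈ normalizer (imgP P : Set Γ)) :
    cjP n (wG F) ≤ imgP P :=
  (Subgroup.map_mono (wG_le c hF)).trans (cjP_eq_iff.2 hn).le

theorem wG_sub (F : Subgroup ↥L) : (wG F).subgroupOf L = wMod 2 F := by
  rw [subgroupOf, comap_map_eq_self_of_injective L.subtype_injective]

/-- Conjugation by `n` on `P`. -/
noncomputable def conjR (hn : n ∈ normalizer (imgP P : Set Γ)) : MulAut ↥(P : Subgroup ↥L) :=
  (((P : Subgroup ↥L).equivMapOfInjective L.subtype L.subtype_injective).trans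
    ((imgP P).normalizerMonoidHom ⟨n, hn⟩)).trans
      ((P : Subgroup ↥L).equivMapOfInjective L.subtype L.subtype_injective).symm

theorem conjR_apply (hn : n ∈ normalizer (imgP P : Set Γ)) (x : ↥(P : Subgroup ↥L)) :
    (((conjR hn x : ↥(P : Subgroup ↥L)) : ↥L) : Γ) = n * ((x : ↥L) : Γ) * n⁻¹ := by
  set e := (P : Subgroup ↥L).equivMapOfInjective L.subtype L.subtype_injective
  have h : e (conjR hn x) = (imgP P).normalizerMonoidHom ⟨n, hn⟩ (e x) := e.apply_symm_apply _
  exact congrArg Subtype.val h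

theorem autImg_conjR (c : Ctx P C) (hF : IsPlane 2 P C F) (hn : n ∈ normalizer (imgP P : Set Γ)) :
    autImg 2 P (conjR hn) F = (cjP n (wG F)).subgroupOf L := by
  ext x
  rw [mem_autImg, mem_subgroupOf]
  constructor
  · rintro ⟨w, hw, rfl⟩
    exact ⟨((w : ↥L) : Γ), ⟨w, hw, rfl⟩, (conjR_apply hn w).symm⟩
  · rintro ⟨_, ⟨w, hw, rfl⟩, e⟩
    exact ⟨⟨w, wMod_le_T c hF hw⟩, hw, Subtype.ext ((conjR_apply hn _).trans e)⟩

theorem key_of (c : Ctx P C) (hn : n ∈ normalizer (imgP P : Set Γ)) (hF : IsPlane 2 P C F)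
    (hZ : IsPlane 2 P C Z) (h : Nc (cjP n (wG F)) (wG Z)) :
    Key P Z ((cjP n (wG F)).subgroupOf L) := by
  rw [← autImg_conjR c hF hn]
  refine Key.of_adj c hF hZ rfl ((adj_iff c hZ).2 ?_)
  have := (nc_subgroupOf ((conj_wG_le c hF hn).trans (map_subtype_le _)) (map_subtype_le _)).1 h
  rwa [wG_sub, ← autImg_conjR c hF hn] at this

theorem planes_commute (c : Ctx P C) (hF : IsPlane 2 P C F) (hZ : IsPlane 2 P C Z) :
    ¬ Nc (wG F) (wG Z) := fun h => by
  obtain ⟨_, ⟨a, ha, rfl⟩, _, ⟨b, hb, rfl⟩, hn⟩ := nc_iff.1 h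
  exact hn ((VV_commute c.charP (wMod_le_VV hF.block c.charP ha) (wMod_le_VV hZ.block c.charP hb)).map L.subtype)

theorem movers_commute (c : Ctx P C) {F' : Subgroup ↥L} (hn : n ∈ normalizer (imgP P : Set Γ))
    (hm : m ∈ normalizer (imgP P : Set Γ)) (hF : IsPlane 2 P C F) (hF' : IsPlane 2 P C F')
    (hZ : IsPlane 2 P C Z) (hZ' : IsPlane 2 P C Z') (h : Nc (cjP n (wG F)) (wG Z))
    (h' : Nc (cjP m (wG F')) (wG Z')) : ¬ Nc (cjP n (wG F)) (cjP m (wG F')) := fun hc => by
  refine (nc_subgroupOf ((conj_wG_le c hF hn).trans (map_subtype_le _))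
    ((conj_wG_le c hF' hm).trans (map_subtype_le _))).1 hc fun x hx => mem_centralizer_iff.2 fun y hy => ?_
  exact (Key.commute c rfl hZ hZ' (key_of c hn hF hZ h) (key_of c hm hF' hZ' h') x hx y hy).eq.symm

theorem mover_unique (c : Ctx P C) (hn : n ∈ normalizer (imgP P : Set Γ)) (hF : IsPlane 2 P C F)
    (hZ : IsPlane 2 P C Z) (hZ' : IsPlane 2 P C Z') (h : Nc (cjP n (wG F)) (wG Z)) (hne : Z' ≠ Z) :
    ¬ Nc (cjP n (wG F)) (wG Z') := fun h' => by
  have h1 := (nc_subgroupOf ((conj_wG_le c hF hn).trans (map_subtype_le _)) (map_subtype_le _)).1 h'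
  rw [wG_sub] at h1
  exact h1 ((key_of c hn hF hZ h).unique c hZ hZ' hne)

theorem mover_noncommute (c : Ctx P C) {k : Γ} (hk : k ∈ normalizer (imgP P : Set Γ))
    (hn : n ∈ normalizer (imgP P : Set Γ)) (hm : m ∈ normalizer (imgP P : Set Γ)) (hF : IsPlane 2 P C F)
    (hY : Nc (cjP n (wG F)) (wG F)) (hU : Nc (cjP m (wG F)) (wG F))
    (hH : ¬ Nc (cjP k (wG F)) (wG F)) (h : Nc (cjP k (wG F)) (cjP n (wG F))) :
    Nc (cjP k (wG F)) (cjP m (wG F)) := by
  have hle : ∀ {g : Γ}, g ∈ normalizer (imgP P : Set Γ) → cjP g (wG F) ≤ L :=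
    fun hg => (conj_wG_le c hF hg).trans (map_subtype_le _)
  refine (nc_subgroupOf (hle hk) (hle hm)).2 ?_
  refine Key.noncommute c rfl hF (key_of c hn hF hF hY) (key_of c hm hF hF hU) ?_ ?_
    ((nc_subgroupOf (hle hk) (hle hn)).1 h)
  · rw [← autImg_conjR c hF hk]
    exact autImg_le_thom c hF _
  · rw [Nc, not_not] at hH
    intro x hx
    refine mem_centralizer_iff.2 fun w hw => Subtype.ext ?_
    exact mem_centralizer_iff.1 (hH (mem_subgroupOf.1 hx)) w ⟨w, hw, rfl⟩

/-- An element normalizing `L`, `P` and `C` carries planes to planes. -/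
theorem exists_plane_conj (hE : IsPlane 2 P C E) (hL : n ∈ normalizer (L : Set Γ))
    (hn : n ∈ normalizer (imgP P : Set Γ)) (hC : n ∈ normalizer (C.map L.subtype : Set Γ)) :
    ∃ F : Subgroup ↥L, IsPlane 2 P C F ∧ F.map L.subtype = cjP n (E.map L.subtype) ∧
      wG F = cjP n (wG E) ∧ Nat.card ↥(orb (P : Subgroup ↥L) F) = Nat.card ↥(orb (P : Subgroup ↥L) E) := by
  set e : MulAut ↥L := L.normalizerMonoidHom ⟨n, hL⟩ with he
  have hmap : ∀ A : Subgroup ↥L, (A.map e.toMonoidHom).map L.subtype = cjP n (A.map L.subtype) := fun A => by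
    rw [cjP, Subgroup.map_map, Subgroup.map_map]
    rfl
  have hfix : ∀ A : Subgroup ↥L, n ∈ normalizer (A.map L.subtype : Set Γ) → A.map e.toMonoidHom = A :=
    fun A hA => map_injective L.subtype_injective ((hmap A).trans (cjP_eq_iff.2 hA))
  refine ⟨E.map e.toMonoidHom, hE.map_auto e (hfix _ hn) (hfix _ hC), hmap E, ?_, card_orb_map e (hfix _ hn) E⟩
  show (wMod 2 (E.map e.toMonoidHom)).map L.subtype = _
  rw [← map_wMod, hmap]

end Cfsg.Lib.Local.CStar
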