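import Cfsg.Agent.Lib.Local.CStar.Six
import Cfsg.Agent.Lib.Local.CStar.MinPlane

/-!
# Automorphisms of odd order of a Sylow subgroup of a minimal parabolic group

An automorphism of `T` carrying the module of a plane outside the centralizer of the modules of the planes of
its orbit exchanges two sorts of subgroups, so its order is even.
-/

set_option autoImplicit false
set_option linter.style.haveILetI false
set_option linter.unusedSectionVars false
set_option maxHeartbeats 1000000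

namespace Cfsg.Lib.Local.CStar

open Subgroup Cfsg Cfsg.Lib Cfsg.Lib.Local.GlaubermanZJ Cfsg.Lib.Local.BaumannBlock
  Cfsg.Lib.Local.BlockLevels Cfsg.Lib.Local.BlockSmall Cfsg.Lib.Local.SubBlock
open scoped commutatorElement MatrixGroups

universe u

variable {G : Type u} [Group G] [Finite G] {p : ℕ} [hp : Fact p.Prime] {T : Sylow p G}
  {C E E' F : Subgroup G}

variable (p) in
/-- The image under an automorphism of `T` of the module of `F`. -/
def autImg (T : Sylow p G) (α : MulAut ↥(T : Subgroup G)) (F : Subgroup G) : Subgroup G :=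
  (((wMod p F).subgroupOf (T : Subgroup G)).map α.toMonoidHom).map (T : Subgroup G).subtype

theorem mem_autImg {α : MulAut ↥(T : Subgroup G)} {x : G} :
    x ∈ autImg p T α F ↔ ∃ w : ↥(T : Subgroup G), (w : G) ∈ wMod p F ∧ ((α w : ↥(T : Subgroup G)) : G) = x :=
  ⟨fun ⟨_, ⟨w, hw, rfl⟩, e⟩ => ⟨w, hw, e⟩, fun ⟨w, hw, e⟩ => ⟨α w, ⟨w, hw, rfl⟩, e⟩⟩

theorem wMod_le_T (c : Ctx T C) (hE : IsPlane p T C E) : wMod p E ≤ (T : Subgroup G) :=
  (wMod_le_bau c hE).trans bau_le

theorem autImg_one (c : Ctx T C) (hE : IsPlane p T C E) : autImg p T 1 E = wMod p E := by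
  ext x
  rw [mem_autImg]
  exact ⟨fun ⟨w, hw, e⟩ => e ▸ hw, fun hx => ⟨⟨x, wMod_le_T c hE hx⟩, hx, rfl⟩⟩

/-- The images do not commute. -/
def Adj (T : Sylow p G) (α β : MulAut ↥(T : Subgroup G)) (F E : Subgroup G) : Prop :=
  ∃ x y : ↥(T : Subgroup G), (x : G) ∈ wMod p F ∧ (y : G) ∈ wMod p E ∧ ¬ Commute (α x) (β y)

theorem Adj.symm {α β : MulAut ↥(T : Subgroup G)} (h : Adj T α β F E) : Adj T β α E F :=
  let ⟨x, y, hx, hy, hn⟩ := h
  ⟨y, x, hy, hx, fun hc => hn hc.symm⟩

theorem adj_mul (γ α β : MulAut ↥(T : Subgroup G)) : Adj T (γ * α) (γ * β) F E ↔ Adj T α β F E :=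
  ⟨fun ⟨x, y, hx, hy, hn⟩ => ⟨x, y, hx, hy, fun hc => hn (hc.map γ)⟩,
    fun ⟨x, y, hx, hy, hn⟩ => ⟨x, y, hx, hy, fun hc => hn (Commute.of_map γ.injective hc)⟩⟩

theorem adj_iff {α : MulAut ↥(T : Subgroup G)} (c : Ctx T C) (hE : IsPlane p T C E) :
    Adj T α 1 F E ↔ ¬ autImg p T α F ≤ centralizer (wMod p E : Set G) := by
  constructor
  · rintro ⟨x, y, hx, hy, hn⟩ hle
    exact hn (Subtype.ext (mem_centralizer_iff.1 (hle (mem_autImg.2 ⟨x, hx, rfl⟩)) _ hy).symm)
  · intro h
    obtain ⟨z, hz, hzn⟩ := SetLike.not_le_iff_exists.1 h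
    obtain ⟨x, hx, rfl⟩ := mem_autImg.1 hz
    by_contra hA
    refine hzn (mem_centralizer_iff.2 fun y hy => ?_)
    have : Commute (α x) ⟨y, wMod_le_T c hE hy⟩ :=
      by_contra fun hn => hA ⟨x, ⟨y, wMod_le_T c hE hy⟩, hx, hy, hn⟩
    exact (congrArg Subtype.val this.eq).symm

theorem autImg_le_thom (c : Ctx T C) (hF : IsPlane p T C F) (α : MulAut ↥(T : Subgroup G)) :
    autImg p T α F ≤ thom T := by
  intro x hx
  obtain ⟨w, hw, rfl⟩ := mem_autImg.1 hx
  exact mem_thompson_iff.1 ((Thompson.map_thompson_eq (p := p) α).le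
    ⟨w, mem_thompson_iff.2 (wMod_le_thom c hF hw), rfl⟩)

theorem autImg_sq (c : Ctx T C) (hF : IsPlane p T C F) (hp2 : p = 2) {α : MulAut ↥(T : Subgroup G)} {x : G}
    (hx : x ∈ autImg p T α F) : x * x = 1 := by
  obtain ⟨w, hw, rfl⟩ := mem_autImg.1 hx
  have h : (w : G) * w = 1 := by
    rw [← pow_two]
    exact hp2 ▸ Frame.w0_pow (wMod_le F hw)
  rw [← coe_mul, ← map_mul, show w * w = 1 from Subtype.ext h, map_one]
  rfl

/-- The coordinate on a subgroup of `B(T)`. -/
noncomputable def tauHom {K : Type} [Field K] [Fintype K] (X : Frame T E K) {D : Subgroup G}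
    (hD : D ≤ bau T) : ↥D →* Multiplicative K where
  toFun a := Multiplicative.ofAdd (X.tau ⟨a, hD a.2⟩)
  map_one' := congrArg Multiplicative.ofAdd X.tau_one
  map_mul' a b := congrArg Multiplicative.ofAdd (X.tau_mul ⟨a, hD a.2⟩ ⟨b, hD b.2⟩)

theorem relIndex_tauHom_ker {K : Type} [Field K] [Fintype K] (X : Frame T E K) {D : Subgroup G}
    (hD : D ≤ bau T) :
    (centralizer (wMod p E : Set G)).relIndex D ≤ Nat.card ↥(tauHom X hD).range := by
  rw [← index_ker, relIndex]
  refine Nat.le_of_dvd (Nat.pos_of_ne_zero index_ne_zero_of_finite) (index_dvd_of_le fun a ha => ?_)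
  have h0 : X.tau ⟨a, hD a.2⟩ = 0 := congrArg Multiplicative.toAdd ha
  exact mem_centralizer_iff.2 fun w hw => (X.commute_of_tau h0 hw).eq.symm

theorem relIndex_upper (c : Ctx T C) (hE : IsPlane p T C E) :
    (thom T ⊓ centralizer (wMod p E : Set G)).relIndex (thom T) ≤ (Lf T E).relIndex (wMod p E) := by
  obtain ⟨K, _, _, ⟨X⟩⟩ := plane_frame c hE
  rw [inf_relIndex_left, X.relIndex_Lf, ← Nat.card_eq_fintype_card]
  exact (relIndex_tauHom_ker X thom_le_bau).trans
    ((Finite.card_subtype_le _).trans (Nat.card_congr Multiplicative.toAdd).le)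

/-- A point of the module with commutators in `C(E)` lies on the line. -/
theorem detect (c : Ctx T C) (hE : IsPlane p T C E) {b w : G} (hb : b ∈ bau T)
    (hbW : b ∉ centralizer (wMod p E : Set G)) (hw : w ∈ wMod p E)
    (h : ⁅w, b⁆ ∈ centralizer (E : Set G)) : w ∈ Lf T E := by
  obtain ⟨K, _, _, ⟨X⟩⟩ := plane_frame c hE
  have h1 := (X.cf_zero_iff (X.commutator_mem_wMod (bau_norm_plane hE hb) hw)).2 h
  rw [X.cf_commutator (b := ⟨b, hb⟩) hw] at h1
  refine X.mem_Lf.2 ⟨hw, ?_⟩
  have h2 := congrFun h1 0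
  simp only [Matrix.cons_val_zero, Pi.zero_apply, neg_eq_zero, mul_eq_zero] at h2
  exact h2.resolve_left fun h0 => hbW (mem_centralizer_iff.2 fun v hv => (X.commute_of_tau h0 hv).eq.symm)

theorem relIndex_lower (c : Ctx T C) (hE : IsPlane p T C E) {Y : Subgroup G} (hY : Y ≤ bau T)
    (hm : ¬ Y ≤ centralizer (wMod p E : Set G)) :
    (Lf T E).relIndex (wMod p E) ≤ (centralizer (Y : Set G)).relIndex (wMod p E) := by
  obtain ⟨y, hy, hyW⟩ := SetLike.not_le_iff_exists.1 hm
  rw [← inf_relIndex_right (centralizer (Y : Set G))]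
  refine relIndex_le_of_le_left (fun w hw => ?_) index_ne_zero_of_finite
  refine detect c hE (hY hy) hyW (mem_inf.1 hw).2 ?_
  rw [commutatorElement_eq_one_iff_commute.2 (mem_centralizer_iff.1 (mem_inf.1 hw).1 y hy).symm]
  exact one_mem _

theorem relIndex_map_auto (α : MulAut ↥(T : Subgroup G)) (A B : Subgroup ↥(T : Subgroup G)) :
    ((A.map α.toMonoidHom).map (T : Subgroup G).subtype).relIndex
        ((B.map α.toMonoidHom).map (T : Subgroup G).subtype) =
      (A.map (T : Subgroup G).subtype).relIndex (B.map (T : Subgroup G).subtype) := by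
  rw [relIndex_map_map_of_injective _ _ (T : Subgroup G).subtype_injective,
    relIndex_map_map_of_injective _ _ (T : Subgroup G).subtype_injective,
    relIndex_map_map_of_injective _ _ (f := α.toMonoidHom) α.injective]

theorem map_meet (A B : Subgroup ↥(T : Subgroup G)) :
    (A ⊓ centralizer (B : Set ↥(T : Subgroup G))).map (T : Subgroup G).subtype =
      A.map (T : Subgroup G).subtype ⊓ centralizer ((B.map (T : Subgroup G).subtype : Subgroup G) : Set G) := by
  ext x
  constructor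
  · rintro ⟨a, ha, rfl⟩
    refine mem_inf.2 ⟨⟨a, (mem_inf.1 ha).1, rfl⟩, mem_centralizer_iff.2 ?_⟩
    rintro _ ⟨b, hb, rfl⟩
    exact congrArg Subtype.val (mem_centralizer_iff.1 (mem_inf.1 ha).2 b hb)
  · intro hx
    obtain ⟨⟨a, ha, rfl⟩, hc⟩ := mem_inf.1 hx
    exact ⟨a, mem_inf.2 ⟨ha, mem_centralizer_iff.2 fun b hb =>
      Subtype.ext (mem_centralizer_iff.1 hc b ⟨b, hb, rfl⟩)⟩, rfl⟩

theorem relIndex_thom_img (c : Ctx T C) (hF : IsPlane p T C F) (α : MulAut ↥(T : Subgroup G)) :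
    (thom T ⊓ centralizer (autImg p T α F : Set G)).relIndex (thom T) =
      (thom T ⊓ centralizer (wMod p F : Set G)).relIndex (thom T) := by
  set J := thompsonSubgroup p ↥(T : Subgroup G) with hJdef
  set W := (wMod p F).subgroupOf (T : Subgroup G) with hWdef
  have hW : W.map (T : Subgroup G).subtype = wMod p F := map_subgroupOf_eq_of_le (wMod_le_T c hF)
  have hJ : thom T = J.map (T : Subgroup G).subtype := rfl
  have hJα : J.map α.toMonoidHom = J := Thompson.map_thompson_eq (p := p) α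
  have e1 : thom T ⊓ centralizer (autImg p T α F : Set G) =
      ((J ⊓ centralizer (W : Set ↥(T : Subgroup G))).map α.toMonoidHom).map (T : Subgroup G).subtype := by
    rw [Subgroup.map_inf _ _ α.toMonoidHom α.injective, hJα, SubBlock.map_centralizer_equiv, map_meet]
    rfl
  have e2 : thom T ⊓ centralizer (wMod p F : Set G) =
      (J ⊓ centralizer (W : Set ↥(T : Subgroup G))).map (T : Subgroup G).subtype := by
    rw [map_meet, hW]
    rfl
  have h := relIndex_map_auto α (J ⊓ centralizer (W : Set ↥(T : Subgroup G))) J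
  rw [hJα, ← e1, ← e2] at h
  exact h

theorem relIndex_autImg (c : Ctx T C) (hE : IsPlane p T C E) (hF : IsPlane p T C F)
    (α : MulAut ↥(T : Subgroup G)) :
    (autImg p T α F ⊓ centralizer (wMod p E : Set G)).relIndex (autImg p T α F) =
      (centralizer (autImg p T α⁻¹ E : Set G)).relIndex (wMod p F) := by
  set W := (wMod p F).subgroupOf (T : Subgroup G) with hW
  set V := (wMod p E).subgroupOf (T : Subgroup G) with hV
  have hV' : (V.map (α⁻¹ : MulAut ↥(T : Subgroup G)).toMonoidHom).map α.toMonoidHom = V := by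
    rw [Subgroup.map_map]
    ext x
    simp
  have e1 : autImg p T α F ⊓ centralizer (wMod p E : Set G) =
      ((W ⊓ centralizer ((V.map (α⁻¹ : MulAut ↥(T : Subgroup G)).toMonoidHom : Subgroup ↥(T : Subgroup G)) :
        Set ↥(T : Subgroup G))).map α.toMonoidHom).map (T : Subgroup G).subtype := by
    rw [Subgroup.map_inf _ _ α.toMonoidHom α.injective, SubBlock.map_centralizer_equiv, hV', map_meet,
      hV, map_subgroupOf_eq_of_le (wMod_le_T c hE)]
    rfl
  rw [e1]
  show Subgroup.relIndex _ ((W.map α.toMonoidHom).map (T : Subgroup G).subtype) = _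
  rw [relIndex_map_auto, map_meet, hW, map_subgroupOf_eq_of_le (wMod_le_T c hF), inf_relIndex_left]
  rfl

/-- A subgroup behaving like the second complement of the line in the plane `E`. -/
structure Key (T : Sylow p G) (E X : Subgroup G) : Prop where
  le : X ≤ thom T
  sq : ∀ x ∈ X, x * x = 1
  moves : ∃ x ∈ X, x ∉ centralizer (wMod p E : Set G)
  surj : ∀ b ∈ bau T, ∃ x ∈ X, b * x ∈ centralizer (wMod p E : Set G)
  split : ∀ a ∈ thom T, ∃ c ∈ thom T, ∃ w ∈ wMod p E, (∀ x ∈ X, Commute c x) ∧ a = c * w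

theorem Key.of_adj (c : Ctx T C) (hF : IsPlane p T C F) (hE : IsPlane p T C E) (hp2 : p = 2)
    {α : MulAut ↥(T : Subgroup G)} (h : Adj T α 1 F E) : Key T E (autImg p T α F) := by
  obtain ⟨K, _, _, ⟨X⟩⟩ := plane_frame c hE
  set D := autImg p T α F with hD
  have hDle : D ≤ thom T := autImg_le_thom c hF α
  have hm := (adj_iff c hE).1 h
  have hm' : ¬ autImg p T α⁻¹ E ≤ centralizer (wMod p F : Set G) := by
    refine (adj_iff c hF).1 ?_
    have h1 := (adj_mul α⁻¹ α 1).2 h
    rw [inv_mul_cancel, mul_one] at h1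
    exact h1.symm
  -- the two bounds
  have hlow : (Lf T E).relIndex (wMod p E) ≤ (thom T ⊓ centralizer (D : Set G)).relIndex (wMod p E) := by
    refine (relIndex_lower c hE (hDle.trans thom_le_bau) hm).trans (Eq.le ?_)
    rw [← inf_relIndex_right (centralizer (D : Set G)), ← inf_relIndex_right (thom T ⊓ centralizer (D : Set G)),
      inf_right_comm, inf_eq_right.2 (wMod_le_thom c hE), inf_comm]
  have hrev : ∀ {E F : Subgroup G}, IsPlane p T C E → IsPlane p T C F → ∀ α : MulAut ↥(T : Subgroup G),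
      ¬ autImg p T α F ≤ centralizer (wMod p E : Set G) →
      (Lf T E).relIndex (wMod p E) ≤ (Lf T F).relIndex (wMod p F) := fun {E F} hE hF α hm =>
    (relIndex_lower c hE ((autImg_le_thom c hF α).trans thom_le_bau) hm).trans <| by
      refine le_trans ?_ ((relIndex_thom_img c hF α).le.trans (relIndex_upper c hF))
      rw [← inf_relIndex_right (centralizer (autImg p T α F : Set G))]
      refine le_trans (Eq.le ?_) (relIndex_le_of_le_right (wMod_le_thom c hE) index_ne_zero_of_finite)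
      rw [← inf_relIndex_right (thom T ⊓ centralizer (autImg p T α F : Set G)), inf_right_comm,
        inf_eq_right.2 (wMod_le_thom c hE), inf_comm]
  have hEF : (Lf T F).relIndex (wMod p F) ≤ (Lf T E).relIndex (wMod p E) := hrev hF hE α⁻¹ hm'
  refine ⟨hDle, fun x hx => autImg_sq c hF hp2 hx, SetLike.not_le_iff_exists.1 hm, ?_, ?_⟩
  · intro b hb
    have hcard : Nat.card (Multiplicative K) ≤ Nat.card ↥(tauHom X (hDle.trans thom_le_bau)).range := by
      rw [Nat.card_congr Multiplicative.toAdd, Nat.card_eq_fintype_card, ← X.relIndex_Lf]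
      refine le_trans ?_ (relIndex_tauHom_ker X _)
      rw [← inf_relIndex_left D, relIndex_autImg c hE hF α]
      exact (hrev hE hF α hm).trans
        (relIndex_lower c hF ((autImg_le_thom c hE α⁻¹).trans thom_le_bau) hm')
    have htop := Subgroup.eq_top_of_le_card _ hcard
    obtain ⟨x, hx⟩ := htop.ge (mem_top (Multiplicative.ofAdd (- X.tau ⟨b, hb⟩)))
    refine ⟨x, x.2, mem_centralizer_iff.2 fun w hw => ?_⟩
    have h0 : X.tau (⟨b, hb⟩ * ⟨x, thom_le_bau (hDle x.2)⟩) = 0 := by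
      rw [X.tau_mul, show X.tau ⟨x, thom_le_bau (hDle x.2)⟩ = - X.tau ⟨b, hb⟩ from
        congrArg Multiplicative.toAdd hx, add_neg_cancel]
    exact (X.commute_of_tau h0 hw).eq.symm
  · intro a ha
    set H := thom T ⊓ centralizer (D : Set G) with hH
    have hHW : H ≤ normalizer (wMod p E : Set G) := fun z hz =>
      norm_wMod hE.block (bau_norm_plane hE (thom_le_bau (mem_inf.1 hz).1))
    have hsup : H ⊔ wMod p E = thom T := by
      refine le_antisymm (sup_le inf_le_left (wMod_le_thom c hE)) (relIndex_eq_one.1 ?_)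
      have h1 := relIndex_mul_relIndex H (H ⊔ wMod p E) (thom T) le_sup_left
        (sup_le inf_le_left (wMod_le_thom c hE))
      have h2 : H.relIndex (wMod p E) ≤ H.relIndex (H ⊔ wMod p E) :=
        relIndex_le_of_le_right le_sup_right index_ne_zero_of_finite
      have h3 := ((relIndex_thom_img c hF α).le.trans (relIndex_upper c hF)).trans hEF
      rw [← hH, ← h1] at h3
      by_contra hne
      have h4 : 2 ≤ (H ⊔ wMod p E).relIndex (thom T) := by
        have : (H ⊔ wMod p E).relIndex (thom T) ≠ 0 := index_ne_zero_of_finite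
        omega
      have hq : 0 < (Lf T E).relIndex (wMod p E) := Nat.pos_of_ne_zero index_ne_zero_of_finite
      have h5 := Nat.mul_le_mul (hlow.trans h2) h4
      omega
    obtain ⟨z, hz, w, hw, e⟩ := (Core.mem_sup_of_le_normalizer hHW).1 (hsup.ge ha)
    exact ⟨z, (mem_inf.1 hz).1, w, hw, fun x hx => (mem_centralizer_iff.1 (mem_inf.1 hz).2 x hx).symm, e.symm⟩

theorem Lf_commute_thom {l a : G} (hl : l ∈ Lf T E) (ha : a ∈ thom T) : Commute a l :=
  mem_centralizer_iff.1 (mem_inf.1 hl).2 a ha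

theorem Key.comm_eq {X : Subgroup G} {x c w : G} (hc : ∀ x ∈ X, Commute c x) (hx : x ∈ X)
    (hcl : Commute c ⁅w, x⁆) : ⁅c * w, x⁆ = ⁅w, x⁆ := by
  have e : ⁅c * w, x⁆ = c * ⁅w, x⁆ * c⁻¹ * ⁅c, x⁆ := by simp [commutatorElement_def]; group
  rw [e, commutatorElement_eq_one_iff_commute.2 (hc x hx), mul_one, hcl.eq, mul_inv_cancel_right]

/-- Such a subgroup moves one plane only. -/
theorem Key.unique (c : Ctx T C) {X : Subgroup G} (hX : Key T E X) (hE : IsPlane p T C E)
    (hE' : IsPlane p T C E') (hne : E' ≠ E) : X ≤ centralizer (wMod p E' : Set G) := by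
  obtain ⟨K', _, _, ⟨X'⟩⟩ := plane_frame c hE'
  obtain ⟨K, _, _, ⟨X0⟩⟩ := plane_frame c hE
  intro x hx
  refine mem_centralizer_iff.2 fun w' hw' => ?_
  obtain ⟨a, ha, w, hw, hax, rfl⟩ := hX.split w' (wMod_le_thom c hE' hw')
  obtain ⟨x0, hx0, hx0W⟩ := hX.moves
  have hL := X0.commutator_mem_Lf (thom_le_bau (hX.le hx0)) hw
  have e := Key.comm_eq hax hx0 (Lf_commute_thom hL ha)
  have hL' := X'.commutator_mem_Lf (thom_le_bau (hX.le hx0)) hw'
  have hwL : w ∈ Lf T E := detect c hE (thom_le_bau (hX.le hx0)) hx0W hw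
    (e ▸ (Lf_le_UE_of_ne c hE' hE hne hL').2)
  exact ((hax x hx).mul_left (Lf_commute_thom hwL (hX.le hx)).symm).eq

theorem sq_cent (c : Ctx T C) (hE : IsPlane p T C E) (hp2 : p = 2) {h : G}
    (hh : h ∈ centralizer (wMod p E : Set G)) : h * h ∈ centralizer (E : Set G) := by
  obtain ⟨K, _, _, ⟨X⟩⟩ := plane_frame c hE
  refine mem_centralizer_iff.2 fun e he => ?_
  have hv : ⁅h, e⁆ ∈ wMod p E := core_eq_wMod c hE hp2 ▸ X.comm_cent_core c hE hh he
  have hvv : ⁅h, e⁆ * ⁅h, e⁆ = 1 := by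
    have := Frame.w0_pow (wMod_le E hv); rwa [hp2, pow_two] at this
  have h1 : ⁅h * h, e⁆ = 1 := by
    rw [show ⁅h * h, e⁆ = h * ⁅h, e⁆ * h⁻¹ * ⁅h, e⁆ by simp [commutatorElement_def]; group,
      ← mem_centralizer_iff.1 hh _ hv, mul_inv_cancel_right, hvv]
  exact (commutatorElement_eq_one_iff_commute.1 h1).eq.symm

theorem Key.commute (c : Ctx T C) {X X' : Subgroup G} (hp2 : p = 2) (hE : IsPlane p T C E)
    (hE' : IsPlane p T C E') (hX : Key T E X) (hX' : Key T E' X') :
    ∀ x ∈ X, ∀ x' ∈ X', Commute x x' := by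
  obtain ⟨K, _, _, ⟨F1⟩⟩ := plane_frame c hE
  by_cases hne : E' = E
  · subst hne
    have key : ∀ x' ∈ X', x' ∉ centralizer (wMod p E' : Set G) → ∀ x ∈ X, Commute x x' := by
      intro x' hx' hx'W x hx
      obtain ⟨a, ha, w, hw, hax, e⟩ := hX.split x' (hX'.le hx')
      suffices hwL : w ∈ Lf T E' by
        rw [e]
        exact (hax x hx).symm.mul_right (Lf_commute_thom hwL (hX.le hx))
      obtain ⟨x1, hx1, hy⟩ := hX.surj a (thom_le_bau ha)
      have hy2 := sq_cent c hE hp2 hy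
      rw [show a * x1 * (a * x1) = a * a * (x1 * x1) by
        rw [mul_assoc, ← mul_assoc x1, ← (hax x1 hx1).eq, ← mul_assoc, ← mul_assoc, mul_assoc, ← mul_assoc],
        hX.sq x1 hx1, mul_one] at hy2
      have hww : w * w = 1 := by
        have := Frame.w0_pow (wMod_le E' hw); rwa [hp2, pow_two] at this
      have hxi : x'⁻¹ = x' := inv_eq_of_mul_eq_one_right (hX'.sq x' hx')
      have hwi : w⁻¹ = w := inv_eq_of_mul_eq_one_right hww
      have ea : a = x' * w := by rw [e, mul_assoc, hww, mul_one]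
      rw [ea, show x' * w * (x' * w) = ⁅x', w⁆ by rw [commutatorElement_def, hxi, hwi]; group] at hy2
      refine detect c hE (thom_le_bau (hX'.le hx')) hx'W hw ?_
      rw [← commutatorElement_inv]
      exact inv_mem hy2
    intro x hx x' hx'
    obtain ⟨z, hz, hzW⟩ := hX'.moves
    by_cases hx'W : x' ∈ centralizer (wMod p E' : Set G)
    · have h1 : x' * z ∉ centralizer (wMod p E' : Set G) := fun h =>
        hzW (by simpa using mul_mem (inv_mem hx'W) h)
      have := (key (x' * z) (mul_mem hx' hz) h1 x hx).mul_right (key z hz hzW x hx).inv_right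
      rwa [mul_inv_cancel_right] at this
    · exact key x' hx' hx'W x hx
  · obtain ⟨K', _, _, ⟨F2⟩⟩ := plane_frame c hE'
    intro x hx x' hx'
    obtain ⟨a, ha, w, hw, hax, e⟩ := hX.split x' (hX'.le hx')
    obtain ⟨x0, hx0, hx0W⟩ := hX.moves
    obtain ⟨a', ha', w', hw', hax', e'⟩ := hX'.split x0 (hX.le hx0)
    suffices hwL : w ∈ Lf T E by
      rw [e]
      exact (hax x hx).symm.mul_right (Lf_commute_thom hwL (hX.le hx))
    have h1 : ⁅x', x0⁆ = ⁅w, x0⁆ := e ▸ Key.comm_eq hax hx0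
      (Lf_commute_thom (F1.commutator_mem_Lf (thom_le_bau (hX.le hx0)) hw) ha)
    have h2 : ⁅x0, x'⁆ = ⁅w', x'⁆ := e' ▸ Key.comm_eq hax' hx'
      (Lf_commute_thom (F2.commutator_mem_Lf (thom_le_bau (hX'.le hx')) hw') ha')
    have hL' := F2.commutator_mem_Lf (thom_le_bau (hX'.le hx')) hw'
    refine detect c hE (thom_le_bau (hX.le hx0)) hx0W hw ?_
    rw [← h1, ← commutatorElement_inv, h2]
    exact inv_mem (Lf_le_UE_of_ne c hE' hE hne hL').2

/-- A subgroup not commuting with one such subgroup of a plane commutes with none. -/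
theorem Key.noncommute (c : Ctx T C) {H Y U : Subgroup G} (hp2 : p = 2) (hE : IsPlane p T C E)
    (hY : Key T E Y) (hU : Key T E U) (hH : H ≤ thom T) (hHW : H ≤ centralizer (wMod p E : Set G))
    (hn : ¬ H ≤ centralizer (Y : Set G)) : ¬ H ≤ centralizer (U : Set G) := by
  obtain ⟨K, _, _, ⟨F1⟩⟩ := plane_frame c hE
  intro hle
  obtain ⟨h, hh, hhY⟩ := SetLike.not_le_iff_exists.1 hn
  obtain ⟨a, ha, w, hw, hay, e⟩ := hY.split h (hH hh)
  have hwL : w ∉ Lf T E := fun hwL => hhY (e ▸ mem_centralizer_iff.2 fun y hy =>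
    (((hay y hy).mul_left (Lf_commute_thom hwL (hY.le hy)).symm).eq).symm)
  obtain ⟨y, hy, hyW⟩ := hY.moves
  obtain ⟨u, hu, hyu⟩ := hU.surj y (thom_le_bau (hY.le hy))
  have h1 := comm_cent c hE hp2 (hHW hh) hyu
  have h2 : ⁅h, y * u⁆ = ⁅w, y⁆ := by
    rw [show ⁅h, y * u⁆ = ⁅h, y⁆ * (y * ⁅h, u⁆ * y⁻¹) by simp [commutatorElement_def]; group,
      commutatorElement_eq_one_iff_commute.2 (mem_centralizer_iff.1 (hle hh) u hu).symm, mul_one,
      mul_inv_cancel, mul_one, e,
      Key.comm_eq hay hy (Lf_commute_thom (F1.commutator_mem_Lf (thom_le_bau (hY.le hy)) hw) ha)]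
  exact hwL (detect c hE (thom_le_bau (hY.le hy)) hyW hw (h2 ▸ h1))

/-- An automorphism of odd order keeps the modules of an orbit in the centralizer of these modules. -/
theorem not_adj (c : Ctx T C) (hp2 : p = 2) {D : Subgroup G} (hD : IsPlane p T C D)
    {β : MulAut ↥(T : Subgroup G)} (hodd : Odd (orderOf β))
    (hF : F ∈ orb (T : Subgroup G) D) (hE : E ∈ orb (T : Subgroup G) D) : ¬ Adj T β 1 F E := by
  intro h0
  set O := orb (T : Subgroup G) D with hO
  have hpl : ∀ X ∈ O, IsPlane p T C X := fun X hX => orb_plane c hD hX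
  have hall : ∀ X ∈ O, ∃ X' ∈ O, Adj T β 1 X X' := by
    intro X hX
    obtain ⟨t, ht, rfl⟩ := orb_trans hF hX
    obtain ⟨x, y, hx, hy, hn⟩ := h0
    set t' : ↥(T : Subgroup G) := ⟨t, ht⟩ with ht'
    refine ⟨cjP ((β t' : ↥(T : Subgroup G)) : G) E, orb_closed hE (β t').2, t' * x * t'⁻¹,
      β t' * y * (β t')⁻¹, ?_, ?_, fun hc => hn ?_⟩
    · rw [cjP, ← map_wMod]
      exact ⟨(x : G), hx, by simp [ht']⟩
    · rw [cjP, ← map_wMod]
      exact ⟨(y : G), hy, by simp⟩
    · rw [map_mul, map_mul, map_inv] at hc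
      exact (Commute.conj_iff (β t')).1 hc
  have hmain : ∀ k : ℕ, (∃ X ∈ O, Adj T (β ^ (2 * k + 1)) 1 F X) := by
    intro k
    induction k with
    | zero => exact ⟨E, hE, by rw [mul_zero, zero_add, pow_one]; exact h0⟩
    | succ k ih =>
      obtain ⟨X, hX, hg⟩ := ih
      obtain ⟨Z, hZ, hYD⟩ := hall X hX
      set γ := β * β ^ (2 * k + 1) with hγ
      have h2 : Adj T γ β F X := by
        have := (adj_mul β (β ^ (2 * k + 1)) 1).2 hg
        rwa [mul_one] at this
      have hY := Key.of_adj c (hpl X hX) (hpl Z hZ) hp2 hYD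
      have hnot : ∀ P ∈ O, ¬ Adj T γ 1 F P := fun P hP hP' => by
        have hK := Key.of_adj c (hpl F hF) (hpl P hP) hp2 hP'
        obtain ⟨x, y, hx, hy, hn⟩ := h2
        exact hn (Subtype.ext (Key.commute c hp2 (hpl P hP) (hpl Z hZ) hK hY _ (mem_autImg.2 ⟨x, hx, rfl⟩) _
          (mem_autImg.2 ⟨y, hy, rfl⟩)).eq)
      obtain ⟨Z', hZ', hZD⟩ := hall Z hZ
      have hU : Adj T β⁻¹ 1 Z' Z := by
        have := (adj_mul β⁻¹ β 1).2 hZD
        rw [inv_mul_cancel, mul_one] at this
        exact this.symm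
      have hKU := Key.of_adj c (hpl Z' hZ') (hpl Z hZ) hp2 hU
      have hHW : autImg p T γ F ≤ centralizer (wMod p Z : Set G) :=
        not_not.1 fun h => hnot Z hZ ((adj_iff c (hpl Z hZ)).2 h)
      have hnY : ¬ autImg p T γ F ≤ centralizer (autImg p T β X : Set G) := fun hle => by
        obtain ⟨x, y, hx, hy, hn⟩ := h2
        exact hn (Subtype.ext (mem_centralizer_iff.1 (hle (mem_autImg.2 ⟨x, hx, rfl⟩)) _
          (mem_autImg.2 ⟨y, hy, rfl⟩)).symm)
      obtain ⟨z, hz, hzU⟩ := SetLike.not_le_iff_exists.1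
        (Key.noncommute c hp2 (hpl Z hZ) hY hKU (autImg_le_thom c (hpl F hF) γ) hHW hnY)
      refine ⟨Z', hZ', ?_⟩
      by_contra hA
      refine hzU (mem_centralizer_iff.2 fun u hu => ?_)
      obtain ⟨x, hx, rfl⟩ := mem_autImg.1 hz
      obtain ⟨y, hy, rfl⟩ := mem_autImg.1 hu
      have hc : Commute (γ x) (β⁻¹ y) := by
        by_contra hn
        refine hA ?_
        have h3 : Adj T (β * γ) 1 F Z' := by
          have h4 := (adj_mul β γ β⁻¹).2 ⟨x, y, hx, hy, hn⟩
          rwa [mul_inv_cancel] at h4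
        rwa [hγ, ← pow_succ', ← pow_succ'] at h3
      exact (congrArg Subtype.val hc.eq).symm
  obtain ⟨k, hk⟩ := hodd
  obtain ⟨X, hX, hA⟩ := hmain k
  rw [← hk, pow_orderOf_eq_one] at hA
  obtain ⟨x, y, hx, hy, hn⟩ := hA
  exact hn (Subtype.ext (VV_commute c.charP (wMod_le_VV (hpl F hF).block c.charP hx)
    (wMod_le_VV (hpl X hX).block c.charP hy)).eq)

/-- A group of automorphisms of `T` of odd order fixes a normal subgroup of `G` inside `T`. -/
theorem exists_invariant_normal (hp2 : p = 2) (hG : centralizer (pCore p G : Set G) ≤ pCore p G)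
    (hirr : ∀ S : Sylow p G, ∃! M : Subgroup G, IsCoatom M ∧ (S : Subgroup G) ≤ M) (T : Sylow p G)
    (A : Subgroup (MulAut ↥(T : Subgroup G))) (hA : Odd (Nat.card A)) :
    ∃ U : Subgroup G, U ≠ ⊥ ∧ U.Normal ∧ U ≤ (T : Subgroup G) ∧
      ∀ a ∈ A, ∀ x : ↥(T : Subgroup G), (x : G) ∈ U → ((a x : ↥(T : Subgroup G)) : G) ∈ U := by
  classical
  haveI : Nontrivial G := by
    obtain ⟨M, ⟨hM, -⟩, -⟩ := hirr T
    by_contra hn
    haveI : Subsingleton G := not_nontrivial_iff_subsingleton.1 hn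
    exact hM.1 (Subsingleton.elim _ _)
  have hchar' : ∀ K : Subgroup G, (K.subgroupOf (T : Subgroup G)).Characteristic →
      ∀ a ∈ A, ∀ x : ↥(T : Subgroup G), (x : G) ∈ K → ((a x : ↥(T : Subgroup G)) : G) ∈ K :=
    fun K hK a _ x hx => (characteristic_iff_map_le.1 hK a ⟨x, mem_subgroupOf.2 hx, rfl⟩ :
      a x ∈ K.subgroupOf (T : Subgroup G))
  by_cases hz : (omegaOneCenter p (T : Subgroup G)).Normal
  · exact ⟨_, omega_ne_bot hG, hz, BaumannBlock.omegaOneCenter_le p _, hchar' _ omega_characteristic⟩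
  by_cases hex : ∃ K : Subgroup G, K ≤ bau T ∧ K ≠ ⊥ ∧ (K.subgroupOf (bau T)).Characteristic ∧ K.Normal
  · obtain ⟨K, hKB, hne, hKc, hKn⟩ := hex
    exact ⟨K, hne, hKn, hKB.trans bau_le, hchar' _ (characteristic_of_bau hKB hKc)⟩
  push Not at hex
  have hmin : IsPMinimal p G := fun S => by
    refine ⟨fun hn => hz ?_, hirr S⟩
    have e : (S : Subgroup G) = (T : Subgroup G) := by
      haveI := Sylow.unique_of_normal S hn
      exact congrArg _ (Subsingleton.elim S T)
    haveI := omega_characteristic (T := T)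
    refine normalizer_eq_top_iff.1 (eq_top_iff.2 ?_)
    have h1 := Core.normalizer_le_normalizer_map_char
      ((omegaOneCenter p (T : Subgroup G)).subgroupOf (T : Subgroup G))
    rw [map_subgroupOf_eq_of_le (BaumannBlock.omegaOneCenter_le p _)] at h1
    exact (normalizer_eq_top_iff.2 (e ▸ hn : (T : Subgroup G).Normal)).ge.trans h1
  obtain ⟨M, E, hTM, hMtop, hmax, hEb, hEs, hEM⟩ := exists_plane_notM hmin hG hex hz
  set C := cStarOf p (T : Subgroup G) with hC
  have c : Ctx T C := ⟨hG, le_rfl⟩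
  have hCM : C ≤ M := by
    refine sup_le ((hmax _ fun x hx => ?_).resolve_right fun e => hz ?_) (iSup_le fun ⟨K, hKB, hKne, hKc⟩ => ?_)
    · exact mem_centralizer_iff.2 fun w hw => (commute_omega hw hx).eq
    · exact ⟨fun w hw g => by
        rwa [← mem_centralizer_iff.1 (e.ge (mem_top g)) w hw, mul_inv_cancel_right]⟩
    · refine (hmax _ ?_).resolve_right fun e => hex K hKB hKne hKc (normalizer_eq_top_iff.1 e)
      haveI := characteristic_of_bau hKB hKc
      have h1 := Core.normalizer_le_normalizer_map_char (K.subgroupOf (T : Subgroup G))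
      rw [map_subgroupOf_eq_of_le (hKB.trans bau_le)] at h1
      exact le_normalizer.trans h1
  have hEC : ¬ E ≤ C := fun h => hEM (h.trans hCM)
  have hE : IsPlane p T C E := ⟨hEb, hEC, hEs⟩
  set O := orb (T : Subgroup G) E with hO
  have hpl : ∀ X ∈ O, IsPlane p T C X := fun X hX => orb_plane c hE hX
  set s : Set G := {y | ∃ a ∈ A, ∃ F ∈ O, y ∈ autImg p T a F} with hs
  set U := closure s with hU
  have hUT : U ≤ (T : Subgroup G) := (closure_le _).2 fun y ⟨a, _, F, hF, hy⟩ =>
    map_subtype_le _ hy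
  have hW : ∀ F ∈ O, wMod p F ≤ U := fun F hF w hw =>
    subset_closure ⟨1, one_mem _, F, hF, by rw [autImg_one c (hpl F hF)]; exact hw⟩
  have hnorm : (T : Subgroup G) ⊔ sSup O ≤ normalizer (U : Set G) := by
    refine sup_le (fun t ht => mem_normalizer_fintype fun y hy => ?_) (sSup_le fun X hX e he =>
      mem_normalizer_fintype fun y hy => ?_)
    · have hle : U ≤ U.comap (MulAut.conj t).toMonoidHom := (closure_le _).2 fun y ⟨a, ha, F, hF, hy⟩ => by
        obtain ⟨w, hw, rfl⟩ := mem_autImg.1 hy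
        set v : ↥(T : Subgroup G) := a⁻¹ ⟨t, ht⟩ with hv
        refine subset_closure ⟨a, ha, cjP (v : G) F, orb_closed hF v.2, mem_autImg.2 ⟨v * w * v⁻¹, ?_, ?_⟩⟩
        · rw [cjP, ← map_wMod]
          exact ⟨(w : G), hw, by simp⟩
        · rw [map_mul, map_mul, map_inv, hv, MulAut.apply_inv_self]
          simp
      exact hle hy
    · obtain ⟨K, _, _, ⟨Fr⟩⟩ := plane_frame c (hpl X hX)
      have hle : U ≤ U.comap (MulAut.conj e).toMonoidHom := (closure_le _).2 fun y ⟨a, ha, F, hF, hy⟩ => by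
        have hyW : y ∈ centralizer (wMod p X : Set G) := by
          by_contra hn
          refine not_adj c hp2 hE ?_ hF hX ((adj_iff c (hpl X hX)).2 fun hle => hn (hle hy))
          exact hA.of_dvd_nat (Subgroup.orderOf_dvd_natCard A ha)
        have hv : ⁅y, e⁆ ∈ wMod p X := core_eq_wMod c (hpl X hX) hp2 ▸ Fr.comm_cent_core c (hpl X hX) hyW he
        show e * y * e⁻¹ ∈ U
        rw [show e * y * e⁻¹ = ⁅y, e⁆⁻¹ * y by simp [commutatorElement_def]; group]
        exact mul_mem (inv_mem (hW X hX hv)) (subset_closure ⟨a, ha, F, hF, hy⟩)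
      exact hle hy
  have htop : (T : Subgroup G) ⊔ sSup O = ⊤ := (hmax _ le_sup_left).resolve_left fun h =>
    hEM ((le_sSup self_mem_orb).trans (le_sup_right.trans h))
  refine ⟨U, fun e => ?_, normalizer_eq_top_iff.1 (top_le_iff.1 (htop ▸ hnorm)), hUT, fun a ha x hx => ?_⟩
  · exact wMod_not_central hE.block fun w hw => by
      rw [mem_bot.1 (e ▸ hW E self_mem_orb hw : w ∈ (⊥ : Subgroup G))]
      exact one_mem _
  · have hx' : x ∈ (closure s).subgroupOf (T : Subgroup G) := hx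
    have key : ∀ (y : G) (hy : y ∈ closure s), ((a ⟨y, hUT hy⟩ : ↥(T : Subgroup G)) : G) ∈ U := by
      intro y hy
      induction hy using closure_induction with
      | mem y hy =>
        obtain ⟨b, hb, F, hF, hy'⟩ := hy
        obtain ⟨w, hw, e⟩ := mem_autImg.1 hy'
        refine subset_closure ⟨a * b, mul_mem ha hb, F, hF, mem_autImg.2 ⟨w, hw, ?_⟩⟩
        rw [MulAut.mul_apply]
        congr 2
        exact Subtype.ext e
      | one => simpa [show (⟨1, hUT (one_mem _)⟩ : ↥(T : Subgroup G)) = 1 from rfl] using one_mem U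
      | mul y z hy hz h1 h2 =>
        rw [show (⟨y * z, hUT (mul_mem hy hz)⟩ : ↥(T : Subgroup G)) = ⟨y, hUT hy⟩ * ⟨z, hUT hz⟩ from rfl,
          map_mul]
        exact mul_mem h1 h2
      | inv y hy h1 =>
        rw [show (⟨y⁻¹, hUT (inv_mem hy)⟩ : ↥(T : Subgroup G)) = (⟨y, hUT hy⟩)⁻¹ from rfl, map_inv]
        exact inv_mem h1
    exact key x hx

end Cfsg.Lib.Local.CStar
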